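import Groth.Agent.H80.Extend.Stage
import Groth.Agent.Lib.ZeroCyc99.FlatLocalAffine
import Groth.Agent.Lib.DescAlg.Descends

/-!
# Extensions of finite etale covers descend along flat surjections
-/

set_option autoImplicit false
set_option backward.isDefEq.respectTransparency false

universe u

open CategoryTheory CategoryTheory.Limits AlgebraicGeometry

namespace Groth.Agent.H80.Extend

open Groth.Agent.Lib.ZeroCyc99

theorem appTop_isoSpec {X : Scheme.{u}} [IsAffine X] :
    X.isoSpec.hom = X.toSpecΓ := rfl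

/-- If functions extend from `U` and the cover extends after a faithfully flat affine base change,
then it extends. -/
theorem ext_id_of_flat {U V X X₂ : Scheme.{u}} [IsAffine X] [IsAffine X₂] (ι : U ⟶ X)
    [IsOpenImmersion ι] [QuasiCompact ι] (hι : IsIso ι.appTop) (q : V ⟶ U) (hq : FEt.prop.{u} q)
    (g : X₂ ⟶ X) [Flat g] [Surjective g] (h : Ext q ι g) :
    ∃ (Z : Scheme.{u}) (z : Z ⟶ X) (j : V ⟶ Z), FEt.prop.{u} z ∧ IsPullback j q z ι := by
  obtain ⟨Z₂, z₂, P, a, b, c, hz₂, h1, hcz, h2⟩ := h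
  have : IsFinite q := hq.1
  have : Etale q := hq.2
  have : IsFinite z₂ := hz₂.1
  have : Etale z₂ := hz₂.2
  have : IsAffine Z₂ := isAffine_of_isAffineHom z₂
  have : CompactSpace U := QuasiCompact.compactSpace_of_compactSpace ι
  have : QuasiSeparatedSpace U := quasiSeparatedSpace_of_quasiSeparated ι
  have : CompactSpace V := QuasiCompact.compactSpace_of_compactSpace q
  have : QuasiSeparatedSpace V := quasiSeparatedSpace_of_quasiSeparated q
  have p1 := FlatLocalAffine.isPushout_appTop h1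
  have p2 := FlatLocalAffine.isPushout_appTop h2
  have : IsIso c.appTop := p2.isIso_inr_of_isIso hι
  let w : V ⟶ X := q ≫ ι
  let Z := Spec Γ(V, ⊤)
  let z : Z ⟶ X := Spec.map w.appTop ≫ X.isoSpec.inv
  let j : V ⟶ Z := V.toSpecΓ
  have hjz : j ≫ z = w := by
    rw [show j ≫ z = (V.toSpecΓ ≫ Spec.map w.appTop) ≫ X.isoSpec.inv from (Category.assoc _ _ _).symm,
      ← Scheme.toSpecΓ_naturality, Category.assoc, show X.toSpecΓ = X.isoSpec.hom from rfl,
      Iso.hom_inv_id, Category.comp_id]
  let θ : Z₂ ⟶ Z := Z₂.toSpecΓ ≫ Spec.map (a.appTop ≫ inv c.appTop)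
  have hbc : b.appTop = z₂.appTop ≫ c.appTop := by rw [← Scheme.Hom.comp_appTop, hcz]
  have p3 : IsPushout w.appTop g.appTop (a.appTop ≫ inv c.appTop) z₂.appTop :=
    p1.of_iso (Iso.refl _) (Iso.refl _) (Iso.refl _) (asIso c.appTop).symm (by simp [w]) (by simp)
      (by simp) (by simp [hbc])
  have hθ : IsPullback θ z₂ z g := by
    refine (isPullback_SpecMap_of_isPushout _ _ _ _ p3).of_iso Z₂.isoSpec.symm
      (Iso.refl _) X₂.isoSpec.symm X.isoSpec.symm ?_ ?_ ?_ ?_
    · simp [θ, Scheme.isoSpec]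
    · simp [Scheme.isoSpec_inv_naturality]
    · simp [z]
    · simp [Scheme.isoSpec_inv_naturality]
  have hcθ : c ≫ θ = a ≫ j := by
    simp only [θ, j]
    rw [Scheme.toSpecΓ_naturality_assoc, ← Spec.map_comp, Category.assoc, IsIso.inv_hom_id,
      Category.comp_id, Scheme.toSpecΓ_naturality]
  have hfs : (@Surjective ⊓ @Flat ⊓ @QuasiCompact : MorphismProperty Scheme.{u}) g :=
    ⟨⟨‹Surjective g›, ‹Flat g›⟩, inferInstance⟩
  have hzf : FEt.prop.{u} z :=
    ⟨MorphismProperty.of_isPullback_of_descendsAlong (P := @IsFinite) hθ.flip hfs hz₂.1,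
      MorphismProperty.of_isPullback_of_descendsAlong (P := @Etale) hθ.flip hfs hz₂.2⟩
  let d : V ⟶ pullback ι z := pullback.lift q j hjz.symm
  have hd1 : d ≫ pullback.fst ι z = q := pullback.lift_fst _ _ _
  have hd2 : d ≫ pullback.snd ι z = j := pullback.lift_snd _ _ _
  have hQ : IsPullback (a ≫ d) c (pullback.snd ι z) θ := by
    refine IsPullback.of_right ?_ ?_ (IsPullback.of_hasPullback ι z)
    · rw [Category.assoc, hd1, hθ.w]
      exact h2
    · rw [Category.assoc, hd2, hcθ]
  have hV : IsPullback a c j θ := by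
    refine IsPullback.of_bot ?_ hcθ.symm hθ
    rw [hcz, hjz]
    exact h1
  have hbase : IsPullback a (𝟙 P) d (a ≫ d) := by
    refine IsPullback.of_bot ?_ (Category.id_comp _).symm hQ
    rw [hd2, Category.id_comp]
    exact hV
  have hθs : (@Surjective ⊓ @Flat ⊓ @QuasiCompact : MorphismProperty Scheme.{u}) (a ≫ d) :=
    MorphismProperty.of_isPullback hQ.flip (MorphismProperty.of_isPullback hθ.flip hfs)
  have : IsIso d := MorphismProperty.of_isPullback_of_descendsAlong
    (P := MorphismProperty.isomorphisms Scheme.{u}) hbase.flip hθs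
    (inferInstanceAs (IsIso (𝟙 P)))
  exact ⟨Z, z, j, hzf, (IsPullback.of_iso_pullback ⟨hjz.symm⟩ (asIso d) hd1 hd2).flip⟩

end Groth.Agent.H80.Extend
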