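import Groth.Agent.H80.Extend.Formal
import Mathlib.RingTheory.AdicCompletion.AsTensorProduct
import Mathlib.RingTheory.AdicCompletion.LocalRing
import Mathlib.RingTheory.AdicCompletion.Noetherian
import Mathlib.RingTheory.Flat.FaithfullyFlat.Algebra
import Mathlib.RingTheory.RingHom.FaithfullyFlat

/-!
# Formal gluing along the completion of a local ring
-/

set_option autoImplicit false
set_option backward.isDefEq.respectTransparency false

universe u

open CategoryTheory CategoryTheory.Limits AlgebraicGeometry TensorProduct IsLocalRing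

namespace Groth.Agent.H80.Extend

variable (A : Type u) [CommRing A] [IsNoetherianRing A] [IsLocalRing A]

theorem faithfullyFlat_completion :
    Module.FaithfullyFlat A (AdicCompletion (maximalIdeal A) A) := by
  have := AdicCompletion.algebraMap_isLocalHom_of_fg (R := A) (maximalIdeal A).fg_of_isNoetherianRing
  exact .of_flat_of_isLocalHom

/-- The completion changes no module supported at the closed point. -/
theorem bijective_completion_torsion (N : Type u) [AddCommGroup N] [Module A N]
    (hN : ∀ (x : N) (r : A), r ∈ maximalIdeal A → ∃ n : ℕ, r ^ n • x = 0) :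
    Function.Bijective (TensorProduct.mk A (AdicCompletion (maximalIdeal A) A) N 1) := by
  have := faithfullyFlat_completion A
  refine ⟨Module.FaithfullyFlat.tensorProduct_mk_injective (A := A)
    (B := AdicCompletion (maximalIdeal A) A) N, fun t => ?_⟩
  induction t using TensorProduct.induction_on with
  | zero => exact ⟨0, map_zero _⟩
  | add s t hs ht =>
    obtain ⟨x, rfl⟩ := hs
    obtain ⟨y, rfl⟩ := ht
    exact ⟨x + y, map_add _ _ _⟩
  | tmul a x =>
    -- a power of the maximal ideal kills `x`
    have hle : maximalIdeal A ≤ Ideal.radical (R := A) (LinearMap.ker (LinearMap.toSpanSingleton A N x)) := fun r hr => by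
      obtain ⟨n, hn⟩ := hN x r hr
      exact ⟨n, hn⟩
    obtain ⟨n, hn⟩ := Ideal.exists_pow_le_of_le_radical_of_fg hle
      (maximalIdeal A).fg_of_isNoetherianRing
    obtain ⟨a₀, ha₀⟩ := Submodule.Quotient.mk_surjective _
      (AdicCompletion.eval (maximalIdeal A) A n a)
    refine ⟨a₀ • x, ?_⟩
    have hmem : a - AdicCompletion.of (maximalIdeal A) A a₀ ∈
        maximalIdeal A ^ n • (⊤ : Submodule A (AdicCompletion (maximalIdeal A) A)) := by
      rw [AdicCompletion.pow_smul_top_eq_ker_eval (maximalIdeal A).fg_of_isNoetherianRing,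
        LinearMap.mem_ker, map_sub, ← ha₀]
      exact sub_self _
    have key : ∀ d ∈ maximalIdeal A ^ n • (⊤ : Submodule A (AdicCompletion (maximalIdeal A) A)),
        d ⊗ₜ[A] x = 0 := fun d hd => by
      refine Submodule.smul_induction_on (p := fun d => d ⊗ₜ[A] x = 0) hd (fun r hr y _ => ?_)
        (fun y y' hy hy' => by rw [TensorProduct.add_tmul, hy, hy', add_zero])
      have hx : r • x = 0 := hn hr
      rw [TensorProduct.smul_tmul, hx, TensorProduct.tmul_zero]
    have h0 := key _ hmem
    rw [TensorProduct.sub_tmul, sub_eq_zero] at h0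
    rw [TensorProduct.mk_apply, h0, ← TensorProduct.smul_tmul]
    congr 1
    exact (Algebra.algebraMap_eq_smul_one (A := AdicCompletion (maximalIdeal A) A) a₀).symm


/-- Formal gluing along the completion of a Noetherian local ring. -/
theorem exists_glue_completion {V Z₂ P : Scheme.{u}}
    (q : V ⟶ (FEt.puncturedSpec A : Scheme.{u})) [QuasiCompact q] [QuasiSeparated q]
    [IsAffine Z₂] (z₂ : Z₂ ⟶ Spec (CommRingCat.of (AdicCompletion (maximalIdeal A) A)))
    (a : P ⟶ V) (b : P ⟶ Spec (CommRingCat.of (AdicCompletion (maximalIdeal A) A))) (c : P ⟶ Z₂)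
    (h1 : IsPullback a b (q ≫ (FEt.puncturedSpec A).ι)
      (Spec.map (CommRingCat.ofHom (algebraMap A (AdicCompletion (maximalIdeal A) A)))))
    (hcz : c ≫ z₂ = b)
    (h2 : IsPullback (a ≫ q) c (FEt.puncturedSpec A).ι
      (z₂ ≫ Spec.map (CommRingCat.ofHom (algebraMap A (AdicCompletion (maximalIdeal A) A))))) :
    ∃ (Z : Scheme.{u}) (z : Z ⟶ Spec (CommRingCat.of A)) (j : V ⟶ Z) (θ : Z₂ ⟶ Z),
      IsPullback θ z₂ z (Spec.map (CommRingCat.ofHom (algebraMap A (AdicCompletion (maximalIdeal A) A)))) ∧
        IsPullback j q z (FEt.puncturedSpec A).ι := by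
  have := faithfullyFlat_completion A
  exact exists_glue_formal (FEt.puncturedSpec A).ι
    (fun N _ _ hN => bijective_completion_torsion A N fun x r hr => hN x r fun t ht => by
      rw [Scheme.Opens.range_ι]
      intro he
      have : t = IsLocalRing.closedPoint A := he
      subst this
      exact ht hr) q z₂ a b c h1 hcz h2

end Groth.Agent.H80.Extend
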