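import Groth.Agent.H80.Extend.Chain
import Groth.Agent.H80.Extend.FlatExt
import Groth.Agent.H26.DepthExtend
import Groth.Agent.Lib.FEt.DepthTwo
import Mathlib.AlgebraicGeometry.Morphisms.Descent

/-!
# Purity descends along flat surjections in depth at least two
-/

set_option autoImplicit false
set_option backward.isDefEq.respectTransparency false

universe u

open CategoryTheory CategoryTheory.Limits AlgebraicGeometry

namespace Groth.Agent.H80.Extend

theorem Ext.restrict {U V X O U' V' X₂ : Scheme.{u}} {q : V ⟶ U} {ι : U ⟶ X} {o : O ⟶ X}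
    {g : X₂ ⟶ O} {u : U' ⟶ U} {ι' : U' ⟶ O} {v : V' ⟶ V} {q' : V' ⟶ U'}
    (hu : IsPullback u ι' ι o) (hv : IsPullback v q' q u) (h : Ext q ι (g ≫ o)) :
    Ext q' ι' g := by
  obtain ⟨Z, z, P, a, b, c, hz, h1, hcz, h2⟩ := h
  let a' : P ⟶ V' := (hv.paste_vert hu).lift a (b ≫ g) (by rw [Category.assoc, h1.w])
  have ha1 : a' ≫ v = a := (hv.paste_vert hu).lift_fst _ _ _
  have ha2 : a' ≫ q' ≫ ι' = b ≫ g := (hv.paste_vert hu).lift_snd _ _ _
  refine ⟨Z, z, P, a', b, c, hz, IsPullback.of_right (by rw [ha1]; exact h1) ha2 (hv.paste_vert hu),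
    hcz, IsPullback.of_right ?_ ?_ hu⟩
  · rw [Category.assoc, ← hv.w, reassoc_of% ha1, Category.assoc]
    exact h2
  · rw [Category.assoc, ha2, reassoc_of% hcz]

variable {X : Scheme.{u}} [IsLocallyNoetherian X] (U : X.Opens)

theorem dense_of_depth
    (hU : ∀ x : X, x ∉ U → (2 : ℕ∞) ≤ LocCoh.depth (X.presheaf.stalk x) (X.presheaf.stalk x)) :
    Dense (U : Set X) :=
  dense_iff_closure_eq.mpr <| Groth.Agent.Lib.FEt.DepthTwo.closure_eq_univ fun x hx =>
    Groth.Agent.Lib.FEt.DepthTwo.isConnected_generalizations_scheme x (hU x hx)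

omit [IsLocallyNoetherian X] in
theorem depth_preimage
    (hU : ∀ x : X, x ∉ U → (2 : ℕ∞) ≤ LocCoh.depth (X.presheaf.stalk x) (X.presheaf.stalk x))
    {W : Scheme.{u}} [IsLocallyNoetherian W] (f : W ⟶ X) [Flat f] :
    ∀ w : W, w ∉ f ⁻¹ᵁ U → (2 : ℕ∞) ≤ LocCoh.depth (W.presheaf.stalk w) (W.presheaf.stalk w) :=
  fun w hw => Groth.Agent.Lib.FEt.DepthTwo.two_le_depth_of_flat f w (hU _ hw)

/-- Extension across points of depth at least two can be checked after a flat surjection. -/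
theorem essSurj_of_flat
    (hU : ∀ x : X, x ∉ U → (2 : ℕ∞) ≤ LocCoh.depth (X.presheaf.stalk x) (X.presheaf.stalk x))
    {X₁ : Scheme.{u}} (f : X₁ ⟶ X) [Flat f] [Surjective f] [QuasiCompact f]
    (h : (FEt.restrict (f ⁻¹ᵁ U).ι).EssSurj) : (FEt.restrict U.ι).EssSurj := by
  refine ⟨fun Y => ?_⟩
  have hdense := dense_of_depth U hU
  obtain ⟨m, hm⟩ := exists_maximal (q := Y.hom) hdense Y.prop
  let mY : FEt.Cat (m.O : Scheme.{u}) := MorphismProperty.Over.mk ⊤ m.z m.prop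
  by_cases htop : m.O = ⊤
  · have : IsIso m.O.ι := by rw [htop]; exact X.topIso.isIso_hom
    let Z : FEt.Cat X := MorphismProperty.Over.mk ⊤ (m.z ≫ m.O.ι)
      ((MorphismProperty.cancel_right_of_respectsIso FEt.prop.{u} m.z _).mpr m.prop)
    refine ⟨Z, UnivHomeo.nonempty_iso_of_isPullback U.ι Y Z m.j ?_⟩
    have h2 : IsPullback (𝟙 m.Z) m.z (m.z ≫ m.O.ι) m.O.ι :=
      IsPullback.of_horiz_isIso ⟨Category.id_comp _⟩
    have h3 := m.pb.paste_horiz h2
    rw [Category.comp_id] at h3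
    have e : X.homOfLE m.le ≫ m.O.ι = U.ι := Scheme.homOfLE_ι _ _
    exact e ▸ h3
  exfalso
  obtain ⟨x, hx⟩ : ∃ x : X, x ∉ m.O := by
    by_contra hall
    exact htop (top_le_iff.mp fun x _ => by_contra fun hxO => hall ⟨x, hxO⟩)
  obtain ⟨N, hN, hxN, -⟩ := exists_isAffineOpen_mem_and_subset (U := (⊤ : X.Opens)) (x := x) trivial
  have : IsAffine (N : Scheme.{u}) := hN
  -- the affine cover of the preimage
  have : CompactSpace ↥((f ⁻¹ᵁ N : X₁.Opens) : Scheme.{u}) :=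
    isCompact_iff_compactSpace.mp (f.isCompact_preimage hN.isCompact)
  obtain ⟨X₂, p, hp, hpf, _⟩ :=
    Scheme.exists_hom_isAffine_of_isZariskiLocalAtSource (P := @Flat) (f ⁻¹ᵁ N : X₁.Opens)
  have : Flat p := hpf
  let g : X₂ ⟶ (N : Scheme.{u}) := p ≫ (f ∣_ N)
  have : Surjective (f ∣_ N) := IsZariskiLocalAtTarget.restrict (P := @Surjective) inferInstance N
  have : Flat (f ∣_ N) := IsZariskiLocalAtTarget.restrict (P := @Flat) inferInstance N
  -- the extension over `X₁`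
  let k : pullback U.ι f ≅ ((f ⁻¹ᵁ U : X₁.Opens) : Scheme.{u}) :=
    pullbackSymmetry _ _ ≪≫ pullbackRestrictIsoRestrict f U
  have hk : k.hom ≫ (f ⁻¹ᵁ U).ι = pullback.snd U.ι f := by
    simp [k]
  have : (FEt.restrict (pullback.snd U.ι f)).EssSurj := by
    rw [← hk]
    exact UnivHomeo.ES.comp (UnivHomeo.ES.of_isIso k.hom) h
  obtain ⟨Z₁, ⟨e₁⟩⟩ := this.mem_essImage ((FEt.restrict (pullback.fst U.ι f)).obj Y)
  have hext : Ext Y.hom U.ι (g ≫ N.ι) := by
    have := (Ext.of_iso U.ι f Y Z₁ e₁).baseChange (p ≫ (f ⁻¹ᵁ N).ι)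
    rwa [Category.assoc, ← morphismRestrict_ι, ← Category.assoc] at this
  -- the extension over `N`
  let YN := (FEt.restrict (pullback.fst U.ι N.ι)).obj Y
  have hextN : Ext YN.hom (pullback.snd U.ι N.ι) g :=
    Ext.restrict (IsPullback.of_hasPullback U.ι N.ι)
      (IsPullback.of_hasPullback Y.hom (pullback.fst U.ι N.ι)) hext
  have hiso : IsIso (pullback.snd U.ι N.ι).appTop := by
    let e : pullback U.ι N.ι ≅ ((N.ι ⁻¹ᵁ U : (N : Scheme.{u}).Opens) : Scheme.{u}) :=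
      pullbackSymmetry _ _ ≪≫ pullbackRestrictIsoRestrict N.ι U
    have he : e.hom ≫ (N.ι ⁻¹ᵁ U).ι = pullback.snd U.ι N.ι := by simp [e]
    have hbij : IsIso (N.ι ⁻¹ᵁ U).ι.appTop := by
      refine (ConcreteCategory.isIso_iff_bijective _).mpr ?_
      change Function.Bijective ((N.ι ⁻¹ᵁ U).ι.app ⊤)
      rw [Scheme.Opens.ι_app]
      have gen : ∀ (O : (N : Scheme.{u}).Opens) (i : O ≤ ⊤), O = ⊤ ⊓ (N.ι ⁻¹ᵁ U) →
          Function.Bijective ((N : Scheme.{u}).presheaf.map (homOfLE i).op) := by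
        intro O i he; subst he
        exact H26.DepthExtend.bijective_restrict _ (depth_preimage U hU N.ι) ⊤
      refine gen _ _ ?_
      rw [Scheme.Hom.image_preimage_eq_opensRange_inf, Scheme.Opens.opensRange_ι, inf_comm]
    rw [← he, Scheme.Hom.comp_appTop]
    infer_instance
  obtain ⟨ZN, zN, jN, hzN, hpN⟩ :=
    ext_id_of_flat (pullback.snd U.ι N.ι) hiso YN.hom YN.prop g hextN
  let ZY : FEt.Cat (N : Scheme.{u}) := MorphismProperty.Over.mk ⊤ zN hzN
  obtain ⟨eN⟩ := UnivHomeo.nonempty_iso_of_isPullback (pullback.snd U.ι N.ι) YN ZY jN hpN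
  obtain ⟨e₂⟩ := UnivHomeo.nonempty_iso_of_isPullback (X.homOfLE m.le) Y mY m.j m.pb
  -- compatibility on the overlap
  let r : pullback m.O.ι N.ι ⟶ X := pullback.fst _ _ ≫ m.O.ι
  obtain ⟨_, _⟩ := Groth.Agent.Lib.FEt.DepthTwo.restrict_full_and_faithful (r ⁻¹ᵁ U)
    (depth_preimage U hU r)
  let t : ((r ⁻¹ᵁ U : (pullback m.O.ι N.ι).Opens) : Scheme.{u}) ⟶ pullback U.ι N.ι :=
    pullback.lift (r ∣_ U) ((r ⁻¹ᵁ U).ι ≫ pullback.snd _ _) (by
      rw [morphismRestrict_ι, Category.assoc]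
      simp only [r, pullback.condition])
  have ht1 : t ≫ pullback.snd _ _ = (r ⁻¹ᵁ U).ι ≫ pullback.snd _ _ := pullback.lift_snd _ _ _
  have ht2 : t ≫ pullback.fst _ _ ≫ X.homOfLE m.le = (r ⁻¹ᵁ U).ι ≫ pullback.fst _ _ := by
    rw [← cancel_mono m.O.ι]
    simp only [Category.assoc, Scheme.homOfLE_ι]
    rw [show t ≫ pullback.fst U.ι N.ι ≫ U.ι = (r ∣_ U) ≫ U.ι from pullback.lift_fst_assoc _ _ _ _,
      morphismRestrict_ι]
  have hR : Ext m.z m.O.ι N.ι := by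
    refine Ext.of_iso m.O.ι N.ι mY ZY ((FEt.restrict (r ⁻¹ᵁ U).ι).preimageIso ?_)
    exact ((UnivHomeo.restrictComp _ _).app ZY).symm ≪≫ eqToIso (by rw [ht1]) ≪≫
      (UnivHomeo.restrictComp t _).app ZY ≪≫ (FEt.restrict t).mapIso eN ≪≫
      (FEt.restrict t).mapIso ((FEt.restrict (pullback.fst U.ι N.ι)).mapIso e₂.symm) ≪≫
      ((FEt.restrict t).mapIso ((UnivHomeo.restrictComp _ _).app mY)).symm ≪≫
      ((UnivHomeo.restrictComp t _).app mY).symm ≪≫ eqToIso (by rw [ht2]) ≪≫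
      (UnivHomeo.restrictComp _ _).app mY
  obtain ⟨Z, z, j, hz, hj⟩ := exists_glue m.z m.prop hR
  let m' : Part U Y.hom :=
    { O := m.O ⊔ N
      le := m.le.trans le_sup_left
      Z := Z
      z := z
      prop := hz
      j := m.j ≫ j
      pb := Scheme.homOfLE_homOfLE X m.le (le_sup_left : m.O ≤ m.O ⊔ N) ▸ m.pb.paste_horiz hj }
  exact hx ((hm m' ⟨le_sup_left, j, hj, rfl⟩).1 (Or.inr hxN))

theorem isEquivalence_of_flat
    (hU : ∀ x : X, x ∉ U → (2 : ℕ∞) ≤ LocCoh.depth (X.presheaf.stalk x) (X.presheaf.stalk x))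
    {X₁ : Scheme.{u}} (f : X₁ ⟶ X) [Flat f] [Surjective f] [QuasiCompact f]
    (h : (FEt.restrict (f ⁻¹ᵁ U).ι).EssSurj) : (FEt.restrict U.ι).IsEquivalence := by
  obtain ⟨_, _⟩ := Groth.Agent.Lib.FEt.DepthTwo.restrict_full_and_faithful U hU
  have := essSurj_of_flat U hU f h
  exact { faithful := ‹_›, full := ‹_›, essSurj := this }

end Groth.Agent.H80.Extend
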