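import Groth.Agent.H80.Extend.Step

/-!
# The local step at a generic point of the complement
-/

set_option autoImplicit false
set_option backward.isDefEq.respectTransparency false

universe u

open CategoryTheory CategoryTheory.Limits AlgebraicGeometry

namespace Groth.Agent.H80.Extend

/-- A point outside `U` all of whose proper generalisations lie in `U`. -/
theorem exists_generic {X : Scheme.{u}} (U : X.Opens) (hU : U ≠ ⊤) :
    ∃ η : X, η ∉ U ∧ ∀ c : X, c ⤳ η → c ≠ η → c ∈ U := by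
  obtain ⟨x, hx⟩ : ∃ x : X, x ∉ U := by
    by_contra h
    exact hU (top_le_iff.mp fun x _ => by_contra fun hx => h ⟨x, hx⟩)
  let R := X.presheaf.stalk x
  let V : (Spec R).Opens := X.fromSpecStalk x ⁻¹ᵁ U
  obtain ⟨I, hI⟩ := (PrimeSpectrum.isClosed_iff_zeroLocus_ideal (SetLike.coe V)ᶜ).mp
    V.isOpen.isClosed_compl
  have hcl : IsLocalRing.closedPoint R ∈ PrimeSpectrum.zeroLocus (SetLike.coe I) := by
    rw [← hI]
    intro h
    exact hx (Scheme.fromSpecStalk_closedPoint (X := X) (x := x) ▸ h)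
  obtain ⟨P, hP, -⟩ := Ideal.exists_minimalPrimes_le
    (J := IsLocalRing.maximalIdeal R) (I := I) hcl
  let t : PrimeSpectrum R := ⟨P, hP.1.1⟩
  have ht : t ∈ PrimeSpectrum.zeroLocus (SetLike.coe I) := hP.1.2
  rw [← hI] at ht
  refine ⟨X.fromSpecStalk x t, ht, fun c hc hne => ?_⟩
  obtain ⟨t', rfl⟩ : c ∈ Set.range (X.fromSpecStalk x) := by
    rw [Scheme.range_fromSpecStalk]
    refine hc.trans ?_
    have : X.fromSpecStalk x t ∈ Set.range (X.fromSpecStalk x) := ⟨t, rfl⟩
    rw [Scheme.range_fromSpecStalk] at this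
    exact this
  have hle : t'.asIdeal ≤ P :=
    (PrimeSpectrum.le_iff_specializes t' t).mpr
      ((X.fromSpecStalk x).isEmbedding.toIsInducing.specializes_iff.mp hc)
  by_contra h
  have ht' : t' ∈ PrimeSpectrum.zeroLocus (SetLike.coe I) := hI ▸ h
  exact hne (congrArg _ (PrimeSpectrum.ext (le_antisymm hle (hP.2 ⟨t'.2, ht'⟩ hle))))

/-- The preimage of `U` in the local scheme at such a point is the punctured spectrum. -/
theorem range_snd_eq {X : Scheme.{u}} (U : X.Opens) {η : X} (hη : η ∉ U)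
    (hgen : ∀ c : X, c ⤳ η → c ≠ η → c ∈ U) :
    Set.range (pullback.snd U.ι (X.fromSpecStalk η)) =
      SetLike.coe (FEt.puncturedSpec (X.presheaf.stalk η)) := by
  rw [Scheme.Pullback.range_snd, Scheme.Opens.range_ι]
  ext t
  change X.fromSpecStalk η t ∈ U ↔ t ≠ IsLocalRing.closedPoint _
  constructor
  · rintro ht rfl
    exact hη (Scheme.fromSpecStalk_closedPoint (X := X) (x := η) ▸ ht)
  · intro ht
    refine hgen _ ?_ fun h => ht ((X.fromSpecStalk η).isEmbedding.injective
      (h.trans Scheme.fromSpecStalk_closedPoint.symm))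
    have : X.fromSpecStalk η t ∈ Set.range (X.fromSpecStalk η) := ⟨t, rfl⟩
    rw [Scheme.range_fromSpecStalk] at this
    exact this

/-- Purity for the local ring gives the extension to the local scheme. -/
theorem ext_of_purity {X : Scheme.{u}} (U : X.Opens) (Y : FEt.Cat (U : Scheme.{u})) {η : X}
    (hη : η ∉ U) (hgen : ∀ c : X, c ⤳ η → c ≠ η → c ∈ U)
    (hp : FEt.PurityHolds (X.presheaf.stalk η)) :
    Ext Y.hom U.ι (X.fromSpecStalk η) := by
  let k : pullback U.ι (X.fromSpecStalk η) ≅ (FEt.puncturedSpec (X.presheaf.stalk η) : Scheme.{u}) :=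
    IsOpenImmersion.isoOfRangeEq (pullback.snd U.ι (X.fromSpecStalk η))
      (FEt.puncturedSpec (X.presheaf.stalk η)).ι
      (by rw [Scheme.Opens.range_ι]; exact range_snd_eq U hη hgen)
  have hk : k.hom ≫ (FEt.puncturedSpec (X.presheaf.stalk η)).ι = pullback.snd U.ι (X.fromSpecStalk η) :=
    IsOpenImmersion.isoOfRangeEq_hom_fac _ _ _
  have : (FEt.restrict k.hom).EssSurj := UnivHomeo.ES.of_isIso k.hom
  have : (FEt.restrict (pullback.snd U.ι (X.fromSpecStalk η))).EssSurj := by
    rw [← hk]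
    exact UnivHomeo.ES.comp (UnivHomeo.ES.of_isIso k.hom) hp
  obtain ⟨Z, ⟨e⟩⟩ := this.mem_essImage ((FEt.restrict (pullback.fst U.ι (X.fromSpecStalk η))).obj Y)
  exact Ext.of_iso U.ι _ Y Z e

/-- Extending a cover from `U` to a strictly bigger open. -/
theorem exists_bigger {X : Scheme.{u}} [IsLocallyNoetherian X] (U : X.Opens)
    (Y : FEt.Cat (U : Scheme.{u})) {η : X} (hη : η ∉ U) (h : Ext Y.hom U.ι (X.fromSpecStalk η)) :
    ∃ (T : X.Opens) (hle : U < T) (Y' : FEt.Cat (T : Scheme.{u})) (j : Y.left ⟶ Y'.left),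
      IsPullback j Y.hom Y'.hom (X.homOfLE hle.le) := by
  obtain ⟨O, hO, hext⟩ := exists_nhd U Y.hom Y.prop η h
  obtain ⟨Z, z, j, hz, hpb⟩ := exists_glue Y.hom Y.prop hext
  have hlt : U < U ⊔ O := lt_of_le_of_ne le_sup_left fun h => hη (h.ge (Or.inr hO))
  exact ⟨U ⊔ O, hlt, MorphismProperty.Over.mk ⊤ z hz, j, hpb⟩

end Groth.Agent.H80.Extend
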