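import Groth.Agent.H80.Extend.Local
import Groth.Agent.Lib.FEt.Basic
import Mathlib.Order.Zorn
import Mathlib.AlgebraicGeometry.Morphisms.Smooth
import Mathlib.AlgebraicGeometry.Morphisms.UniversallyOpen

/-!
# Maximal extensions of a finite etale cover of a dense open
-/

set_option autoImplicit false
set_option backward.isDefEq.respectTransparency false

universe u

open CategoryTheory CategoryTheory.Limits AlgebraicGeometry

namespace Groth.Agent.H80.Extend

variable {X : Scheme.{u}} (U : X.Opens) {V : Scheme.{u}} (q : V ⟶ (U : Scheme.{u}))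

/-- An extension of the cover to a bigger open. -/
structure Part where
  /-- The open. -/
  O : X.Opens
  le : U ≤ O
  /-- The cover. -/
  Z : Scheme.{u}
  /-- The structure map. -/
  z : Z ⟶ (O : Scheme.{u})
  prop : FEt.prop.{u} z
  /-- The inclusion of the given cover. -/
  j : V ⟶ Z
  pb : IsPullback j q z (X.homOfLE le)

variable {U q}

/-- One extension restricts to another. -/
def Part.R (p p' : Part U q) : Prop :=
  ∃ (h : p.O ≤ p'.O) (φ : p.Z ⟶ p'.Z), IsPullback φ p.z p'.z (X.homOfLE h) ∧ p.j ≫ φ = p'.j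

theorem Part.R.refl (p : Part U q) : p.R p :=
  ⟨le_rfl, 𝟙 _, by rw [Scheme.homOfLE_rfl]; exact IsPullback.of_horiz_isIso ⟨by simp⟩,
    Category.comp_id _⟩

theorem Part.R.trans {a b c : Part U q} (h : a.R b) (h' : b.R c) : a.R c := by
  obtain ⟨h, φ, hp, hj⟩ := h
  obtain ⟨h', ψ, hp', hj'⟩ := h'
  refine ⟨h.trans h', φ ≫ ψ, ?_, by rw [reassoc_of% hj, hj']⟩
  have := hp.paste_horiz hp'
  rwa [Scheme.homOfLE_homOfLE] at this

/-- Extensions over the same open are symmetric. -/
theorem Part.R.symm {p q : Part U q} (h : p.R q) (hO : q.O ≤ p.O) : q.R p := by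
  obtain ⟨h, φ, hp, hj⟩ := h
  have : IsIso (X.homOfLE h) := ⟨X.homOfLE hO, by simp, by simp⟩
  have : IsIso (X.homOfLE hO) := ⟨X.homOfLE h, by simp, by simp⟩
  have : IsIso φ := hp.isIso_fst_of_isIso
  refine ⟨hO, inv φ, IsPullback.of_horiz_isIso ⟨?_⟩, by rw [← hj, Category.assoc, IsIso.hom_inv_id, Category.comp_id]⟩
  rw [← cancel_mono (X.homOfLE h), ← cancel_epi φ]
  simp [hp.w]

/-- Morphisms out of an extension are determined on the given cover. -/
theorem Part.hom_ext (hU : Dense (U : Set X)) (p : Part U q) {T S : Scheme.{u}} (t : T ⟶ S)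
    (ht : FEt.prop.{u} t) {φ ψ : p.Z ⟶ T} (h : p.j ≫ φ = p.j ≫ ψ) (h' : φ ≫ t = ψ ≫ t) :
    φ = ψ := by
  have : IsFinite t := ht.1
  have : Etale t := ht.2
  have : Etale p.z := p.prop.2
  refine Groth.Agent.Lib.FEt.Basic.eq_of_denseRange t φ ψ h' p.j ?_ h
  have hr : Set.range p.j = p.z ⁻¹' (p.O.ι ⁻¹' (U : Set X)) := by
    ext x
    constructor
    · rintro ⟨y, rfl⟩
      have e : p.O.ι (p.z (p.j y)) = U.ι (q y) := by
        simp only [← Scheme.Hom.comp_apply]
        rw [p.pb.w, Category.assoc, Scheme.homOfLE_ι]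
      change p.O.ι (p.z (p.j y)) ∈ U
      rw [e]
      exact (q y).2
    · intro hx
      obtain ⟨y, hy, -⟩ := Scheme.exists_preimage_of_isPullback p.pb x ⟨_, hx⟩
        (p.O.ι.isOpenEmbedding.injective (by
          rw [← Scheme.Hom.comp_apply (X.homOfLE p.le), Scheme.homOfLE_ι]; rfl))
      exact ⟨y, hy⟩
  change Dense (Set.range p.j)
  rw [hr]
  exact (hU.preimage p.O.ι.isOpenEmbedding.isOpenMap).preimage p.z.isOpenMap

/-- A chain of extensions has a common extension. -/
theorem exists_ub (hU : Dense (U : Set X)) (c : Set (Part U q)) (hc : IsChain Part.R c)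
    (hne : c.Nonempty) : ∃ ub : Part U q, ∀ a ∈ c, a.R ub := by
  classical
  let J := {O : X.Opens // ∃ p ∈ c, Part.O p = O}
  let pc : J → Part U q := fun i => i.2.choose
  have hpc : ∀ i : J, pc i ∈ c := fun i => i.2.choose_spec.1
  have hpO : ∀ i : J, (pc i).O = i.1 := fun i => i.2.choose_spec.2
  have htot : ∀ a ∈ c, ∀ b ∈ c, a.R b ∨ b.R a := fun a ha b hb => by
    by_cases hab : a = b
    · exact Or.inl (hab ▸ Part.R.refl a)
    · exact hc ha hb hab
  have hR : ∀ {i j : J}, i ≤ j → (pc i).R (pc j) := fun {i j} hij => by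
    rcases htot _ (hpc i) _ (hpc j) with h | h
    · exact h
    · have : i = j := Subtype.ext (le_antisymm hij (hpO i ▸ hpO j ▸ h.1))
      exact this ▸ Part.R.refl _
  let tr : ∀ {i j : J}, (i ⟶ j) → ((pc i).Z ⟶ (pc j).Z) := fun f => (hR (leOfHom f)).choose_spec.choose
  have hle : ∀ {i j : J}, (i ⟶ j) → (pc i).O ≤ (pc j).O := fun f => (hR (leOfHom f)).choose
  have htr : ∀ {i j : J} (f : i ⟶ j),
      IsPullback (tr f) (pc i).z (pc j).z (X.homOfLE (hle f)) ∧ (pc i).j ≫ tr f = (pc j).j :=
    fun f => (hR (leOfHom f)).choose_spec.choose_spec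
  let F : J ⥤ Scheme.{u} :=
    { obj := fun i => (pc i).Z
      map := fun f => tr f
      map_id := fun i => (pc i).hom_ext hU _ (pc i).prop
        (by rw [(htr (𝟙 i)).2, Category.comp_id])
        (by rw [(htr (𝟙 i)).1.w, Category.id_comp, Scheme.homOfLE_rfl, Category.comp_id])
      map_comp := fun {i j k} f g => (pc i).hom_ext hU _ (pc k).prop
        (by rw [(htr (f ≫ g)).2, reassoc_of% (htr f).2, (htr g).2])
        (by rw [(htr (f ≫ g)).1.w, Category.assoc, (htr g).1.w, reassoc_of% (htr f).1.w,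
          Scheme.homOfLE_homOfLE]) }
  have hoi : ∀ {i j : J} (f : i ⟶ j), IsOpenImmersion (F.map f) := fun {i j} f =>
    MorphismProperty.of_isPullback (P := @IsOpenImmersion) (htr f).1.flip inferInstance
  have htotJ : ∀ i j : J, i ≤ j ∨ j ≤ i := fun i j => by
    rcases htot _ (hpc i) _ (hpc j) with h | h
    · exact Or.inl (show i.1 ≤ j.1 from hpO i ▸ hpO j ▸ h.1)
    · exact Or.inr (show j.1 ≤ i.1 from hpO i ▸ hpO j ▸ h.1)
  have : (F ⋙ Scheme.forget).IsLocallyDirected := by
    constructor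
    intro i j k fi fj xi xj heq
    simp only [Functor.comp_map, Scheme.forget_map] at heq
    rcases htotJ i j with h | h
    · refine ⟨i, 𝟙 i, homOfLE h, xi, by simp, ?_⟩
      apply (F.map fj).isOpenEmbedding.injective
      simp only [Functor.comp_map, Scheme.forget_map]
      refine Eq.trans ?_ heq
      refine (Scheme.Hom.comp_apply _ _ _).symm.trans ?_
      rw [← F.map_comp]
      exact congrArg (fun m => (F.map m) xi) (Subsingleton.elim _ _)
    · refine ⟨j, homOfLE h, 𝟙 j, xj, ?_, by simp⟩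
      apply (F.map fi).isOpenEmbedding.injective
      simp only [Functor.comp_map, Scheme.forget_map]
      refine Eq.trans ?_ heq.symm
      refine (Scheme.Hom.comp_apply _ _ _).symm.trans ?_
      rw [← F.map_comp]
      exact congrArg (fun m => (F.map m) xj) (Subsingleton.elim _ _)
  let T : X.Opens := ⨆ i : J, (pc i).O
  have hT : ∀ i, (pc i).O ≤ T := fun i => le_iSup (fun i : J => (pc i).O) i
  let co : Cocone F :=
    { pt := (T : Scheme.{u})
      ι :=
        { app := fun i => (pc i).z ≫ X.homOfLE (hT i)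
          naturality := fun i j f => by
            refine Eq.trans ?_ (Category.comp_id _).symm
            change tr f ≫ (pc j).z ≫ _ = _
            rw [reassoc_of% (htr f).1.w, Scheme.homOfLE_homOfLE] } }
  let toT : colimit F ⟶ (T : Scheme.{u}) := colimit.desc F co
  have hι : ∀ i, colimit.ι F i ≫ toT = (pc i).z ≫ X.homOfLE (hT i) := fun i => colimit.ι_desc co i
  have hι' : ∀ i, colimit.ι F i ≫ toT ≫ T.ι = (pc i).z ≫ (pc i).O.ι := fun i => by
    rw [reassoc_of% hι i, Scheme.homOfLE_ι]
  have hopens : ∀ i, (X.homOfLE (hT i)).opensRange = T.ι ⁻¹ᵁ (pc i).O := fun i => by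
    refine SetLike.ext fun v => ⟨?_, fun hv => ?_⟩
    · rintro ⟨x, rfl⟩
      rw [Scheme.Hom.mem_preimage, ← Scheme.Hom.comp_apply, Scheme.homOfLE_ι]
      exact x.2
    · refine Scheme.Hom.mem_opensRange.mpr ⟨(⟨_, hv⟩ : (pc i).O), T.ι.isOpenEmbedding.injective ?_⟩
      rw [← Scheme.Hom.comp_apply, Scheme.homOfLE_ι]
      rfl
  have hpb : ∀ i, IsPullback (pc i).z (colimit.ι F i) (X.homOfLE (hT i)) toT := fun i => by
    refine IsOpenImmersion.isPullback _ _ _ _ (hι i) (SetLike.ext fun v => ?_)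
    rw [Scheme.Hom.mem_preimage, hopens, Scheme.Hom.mem_preimage, ← Scheme.Hom.comp_apply]
    constructor
    · intro hv
      obtain ⟨k, xk, rfl⟩ := Scheme.IsLocallyDirected.ι_jointly_surjective F v
      rw [← Scheme.Hom.comp_apply, hι' k] at hv
      rcases htotJ k i with h | h
      · exact ⟨F.map (homOfLE h) xk, by rw [← Scheme.Hom.comp_apply, colimit.w]⟩
      · obtain ⟨xi, hxi, -⟩ := Scheme.exists_preimage_of_isPullback (htr (homOfLE h)).1 xk
          ⟨_, hv⟩ ((pc k).O.ι.isOpenEmbedding.injective (by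
            simp only [← Scheme.Hom.comp_apply, Scheme.homOfLE_ι]; rfl))
        refine ⟨xi, ?_⟩
        rw [← hxi]
        exact (congrArg (fun m => m xi) (colimit.w F (homOfLE h)).symm).trans
          (Scheme.Hom.comp_apply _ _ _)
    · rintro ⟨x, rfl⟩
      rw [← Scheme.Hom.comp_apply, hι', Scheme.Hom.comp_apply]
      exact ((pc i).z x).2
  have : IsZariskiLocalAtTarget (@Etale : MorphismProperty Scheme.{u}) :=
    HasRingHomProperty.instIsZariskiLocalAtTarget @Etale
  have key : ∀ (P : MorphismProperty Scheme.{u}) [IsZariskiLocalAtTarget P],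
      (∀ i, P (pc i).z) → P toT := by
    intro P _ hP
    refine IsZariskiLocalAtTarget.of_iSup_eq_top (fun i : J => (X.homOfLE (hT i)).opensRange) ?_
      fun i => ?_
    · refine top_le_iff.mp fun v _ => ?_
      obtain ⟨i, hi⟩ := TopologicalSpace.Opens.mem_iSup.mp v.2
      exact TopologicalSpace.Opens.mem_iSup.mpr ⟨i, (hopens i).ge hi⟩
    · refine (P.arrow_mk_iso_iff (morphismRestrictOpensRange _ _)).mpr ?_
      rw [← (hpb i).flip.isoPullback_inv_snd, P.cancel_left_of_respectsIso]
      exact hP i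
  obtain ⟨p₀, hp₀⟩ := hne
  let i₀ : J := ⟨p₀.O, p₀, hp₀, rfl⟩
  let ub : Part U q :=
    { O := T
      le := (pc i₀).le.trans (hT i₀)
      Z := colimit F
      z := toT
      prop := ⟨key @IsFinite fun i => (pc i).prop.1, key @Etale fun i => (pc i).prop.2⟩
      j := (pc i₀).j ≫ colimit.ι F i₀
      pb := by
        have := (pc i₀).pb.paste_horiz (hpb i₀).flip
        rwa [Scheme.homOfLE_homOfLE] at this }
  have hj : ∀ i, (pc i).j ≫ colimit.ι F i = (pc i₀).j ≫ colimit.ι F i₀ := fun i => by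
    rcases htotJ i i₀ with h | h
    · rw [← colimit.w F (homOfLE h)]
      exact (reassoc_of% (htr (homOfLE h)).2) _
    · rw [← colimit.w F (homOfLE h)]
      exact ((reassoc_of% (htr (homOfLE h)).2) _).symm
  refine ⟨ub, fun a ha => ?_⟩
  let i : J := ⟨a.O, a, ha, rfl⟩
  have hai : a.R (pc i) := by
    rcases htot a ha _ (hpc i) with h | h
    · exact h
    · exact h.symm (hpO i).ge
  exact hai.trans ⟨hT i, colimit.ι F i, (hpb i).flip, hj i⟩

/-- There is a maximal extension. -/
theorem exists_maximal (hU : Dense (U : Set X)) (hq : FEt.prop.{u} q) : ∃ m : Part U q, ∀ a, m.R a → a.R m := by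
  let init : Part U q :=
    { O := U
      le := le_rfl
      Z := V
      z := q
      prop := hq
      j := 𝟙 _
      pb := by rw [Scheme.homOfLE_rfl]; exact IsPullback.of_horiz_isIso ⟨by simp⟩ }
  refine exists_maximal_of_chains_bounded (fun c hc => ?_) fun h h' => h.trans h'
  rcases c.eq_empty_or_nonempty with h | h
  · exact ⟨init, fun a ha => absurd (h ▸ ha) (Set.notMem_empty a)⟩
  · exact exists_ub hU c hc h

end Groth.Agent.H80.Extend
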