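import Groth.Agent.H80.Extend.Local
import Groth.Agent.Lib.Flat55.GenericPoints
import Groth.Agent.Lib.Regular.Quotient
import Mathlib.RingTheory.RegularLocalRing.Defs
import Mathlib.RingTheory.KrullDimension.Basic

/-!
# The codimension one step
-/

set_option autoImplicit false
set_option backward.isDefEq.respectTransparency false

universe u

open CategoryTheory CategoryTheory.Limits AlgebraicGeometry

namespace Groth.Agent.H80.Extend

/-- A generisation-maximal point of the local scheme lands in every dense open. -/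
theorem mem_of_minimal {X : Scheme.{u}} [IsLocallyNoetherian X] {U : X.Opens}
    (hU : Dense (U : Set X)) {η : X} (t : PrimeSpectrum (X.presheaf.stalk η))
    (ht : ∀ t', t' ≤ t → t' = t) : X.fromSpecStalk η t ∈ U := by
  refine Groth.Agent.Lib.Flat55.GenericPoints.mem_dense_open hU
    (Groth.Agent.Lib.Flat55.GenericPoints.mem_of_forall_specializes fun c hc => ?_)
  have hr : X.fromSpecStalk η t ∈ Set.range (X.fromSpecStalk η) := ⟨t, rfl⟩
  rw [Scheme.range_fromSpecStalk] at hr
  obtain ⟨t', rfl⟩ : c ∈ Set.range (X.fromSpecStalk η) := by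
    rw [Scheme.range_fromSpecStalk]
    exact hc.trans hr
  exact congrArg _ (ht t' ((PrimeSpectrum.le_iff_specializes t' t).mpr
    ((X.fromSpecStalk η).isEmbedding.toIsInducing.specializes_iff.mp hc)))

theorem dim_cases {X : Scheme.{u}} [IsLocallyNoetherian X] {U : X.Opens}
    (hU : Dense (U : Set X)) {η : X} (hη : η ∉ U) :
    ringKrullDim (X.presheaf.stalk η) = 1 ∨ (2 : WithBot ℕ∞) ≤ ringKrullDim (X.presheaf.stalk η) := by
  have hne : ¬ (IsLocalRing.maximalIdeal (X.presheaf.stalk η)).height = 0 := by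
    intro h
    refine hη ?_
    have := mem_of_minimal hU (IsLocalRing.closedPoint (X.presheaf.stalk η)) fun t' ht' => by
      refine PrimeSpectrum.ext ?_
      exact le_antisymm ht' ((Ideal.height_eq_zero_iff.mp h).2 ⟨t'.2, bot_le⟩ ht')
    rwa [Scheme.fromSpecStalk_closedPoint] at this
  rw [← IsLocalRing.maximalIdeal_height_eq_ringKrullDim]
  revert hne
  generalize (IsLocalRing.maximalIdeal (X.presheaf.stalk η)).height = d
  intro hne
  rcases eq_or_ne d 1 with rfl | h1
  · exact Or.inl rfl
  · refine Or.inr (WithBot.coe_le_coe.mpr ?_)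
    have h : 1 < d := lt_of_le_of_ne (Order.one_le_iff_ne_zero.mpr hne) h1.symm
    exact ENat.add_one_le_iff (ENat.natCast_ne_top 1) |>.mpr h

theorem ext_of_dim_one {X : Scheme.{u}} [IsLocallyNoetherian X] {U O : X.Opens}
    (hU : Dense (U : Set X)) (hle : U ≤ O) {η : X} (hη : η ∉ O)
    (hgen : ∀ c : X, c ⤳ η → c ≠ η → c ∈ O) [IsRegularLocalRing (X.presheaf.stalk η)]
    (h1 : ringKrullDim (X.presheaf.stalk η) = 1) (Y : FEt.Cat (U : Scheme.{u}))
    (mY : FEt.Cat (O : Scheme.{u})) (j : Y.left ⟶ mY.left)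
    (hj : IsPullback j Y.hom mY.hom (X.homOfLE hle)) (Z : FEt.Cat (Spec (X.presheaf.stalk η)))
    (e : (FEt.restrict (pullback.snd U.ι (X.fromSpecStalk η))).obj Z ≅
      (FEt.restrict (pullback.fst U.ι (X.fromSpecStalk η))).obj Y) :
    Ext mY.hom O.ι (X.fromSpecStalk η) := by
  have := Groth.Agent.Lib.Regular.Quotient.isDomain (X.presheaf.stalk η)
  -- the two preimages in the local scheme agree
  let k : pullback U.ι (X.fromSpecStalk η) ⟶ pullback O.ι (X.fromSpecStalk η) :=
    pullback.lift (pullback.fst _ _ ≫ X.homOfLE hle) (pullback.snd _ _) (by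
      rw [Category.assoc, Scheme.homOfLE_ι, pullback.condition])
  have hk1 : k ≫ pullback.fst _ _ = pullback.fst _ _ ≫ X.homOfLE hle := pullback.lift_fst _ _ _
  have hk2 : k ≫ pullback.snd _ _ = pullback.snd _ _ := pullback.lift_snd _ _ _
  have hr : Set.range (pullback.snd U.ι (X.fromSpecStalk η)) =
      Set.range (pullback.snd O.ι (X.fromSpecStalk η)) := by
    rw [range_snd_eq O hη hgen, Scheme.Pullback.range_snd, Scheme.Opens.range_ι]
    ext t
    change X.fromSpecStalk η t ∈ U ↔ t ≠ IsLocalRing.closedPoint _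
    refine ⟨?_, fun ht => mem_of_minimal hU t fun t' ht' => ?_⟩
    · rintro ht rfl
      exact hη (hle (Scheme.fromSpecStalk_closedPoint (X := X) (x := η) ▸ ht))
    · have : Ring.KrullDimLE 1 (X.presheaf.stalk η) := Ring.krullDimLE_iff.mpr h1.le
      have hbot : ∀ s : PrimeSpectrum (X.presheaf.stalk η), s ≠ IsLocalRing.closedPoint _ →
          s.asIdeal = ⊥ := fun s hs => by
        by_contra hne
        exact hs (PrimeSpectrum.ext (IsLocalRing.eq_maximalIdeal (Ring.krullDimLE_one_iff_of_noZeroDivisors.mp this _ hne s.2)))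
      refine PrimeSpectrum.ext (le_antisymm ht' ?_)
      rw [hbot t ht]
      exact bot_le
  let K := IsOpenImmersion.isoOfRangeEq (pullback.snd U.ι (X.fromSpecStalk η))
    (pullback.snd O.ι (X.fromSpecStalk η)) hr
  have hK : K.hom = k := by
    rw [← cancel_mono (pullback.snd O.ι (X.fromSpecStalk η)), hk2]
    exact IsOpenImmersion.isoOfRangeEq_hom_fac _ _ _
  have : IsIso k := hK ▸ inferInstance
  have := (Groth.Agent.S0283.result k).1
  have := (Groth.Agent.S0283.result k).2
  obtain ⟨e₂⟩ := UnivHomeo.nonempty_iso_of_isPullback (X.homOfLE hle) Y mY j hj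
  refine Ext.of_iso O.ι _ mY Z ((FEt.restrict k).preimageIso ?_)
  refine ((UnivHomeo.restrictComp k _).app Z).symm ≪≫ eqToIso (by rw [hk2]) ≪≫ e ≪≫
    (FEt.restrict (pullback.fst U.ι (X.fromSpecStalk η))).mapIso e₂.symm ≪≫
    ((UnivHomeo.restrictComp _ _).app mY).symm ≪≫ eqToIso (by rw [hk1]) ≪≫
    (UnivHomeo.restrictComp k _).app mY

end Groth.Agent.H80.Extend
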