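import Mathlib.RingTheory.IsTensorProduct
import Mathlib.RingTheory.Flat.Basic
import Mathlib.RingTheory.TensorProduct.Maps

/-!
# Gluing algebras along a flat map which is the identity on torsion modules
-/

set_option autoImplicit false

universe u

open TensorProduct

namespace Groth.Agent.H80.Extend

variable {A A' R B E : Type u} [CommRing A] [CommRing A'] [Algebra A A'] [CommRing R] [Algebra A R]
  [CommRing B] [Algebra A B] [Algebra A' B] [IsScalarTower A A' B]
  [CommRing E] [Algebra A E] [Algebra A' E] [IsScalarTower A A' E]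

/-- The fibre product algebra. -/
def glueAlg (ψ : R →ₐ[A] E) (φ : B →ₐ[A'] E) : Subalgebra A (R × B) :=
  AlgHom.equalizer (ψ.comp (AlgHom.fst A R B)) ((φ.restrictScalars A).comp (AlgHom.snd A R B))

theorem mem_glueAlg {ψ : R →ₐ[A] E} {φ : B →ₐ[A'] E} {x : R × B} :
    x ∈ glueAlg ψ φ ↔ ψ x.1 = φ x.2 := Iff.rfl

/-- The comparison map from the base change of the fibre product. -/
noncomputable def glueComp (ψ : R →ₐ[A] E) (φ : B →ₐ[A'] E) :
    A' ⊗[A] glueAlg ψ φ →ₐ[A'] B :=
  Algebra.TensorProduct.lift (Algebra.ofId A' B) ((AlgHom.snd A R B).comp (glueAlg ψ φ).val)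
    fun _ _ => mul_comm _ _

/-- The fibre product has the prescribed base change. -/
theorem bijective_glueComp [Module.Flat A A'] (ψ : R →ₐ[A] E) (φ : B →ₐ[A'] E)
    (hψ : Function.Bijective
      (Algebra.TensorProduct.lift (Algebra.ofId A' E) ψ fun _ _ => mul_comm _ _ : A' ⊗[A] R →ₐ[A'] E))
    (hC : Function.Bijective (TensorProduct.mk A A' (E ⧸ LinearMap.range (φ.restrictScalars A).toLinearMap) 1))
    (hK : Function.Bijective (TensorProduct.mk A A' (LinearMap.ker (φ.restrictScalars A).toLinearMap) 1)) :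
    Function.Bijective (glueComp ψ φ) := by
  let M := glueAlg ψ φ
  let μ := glueComp ψ φ
  have hμ : ∀ (a : A') (m : M), μ (a ⊗ₜ m) = algebraMap A' B a * m.1.2 := fun a m =>
    (Algebra.TensorProduct.lift_tmul _ _ _ _ _).trans rfl
  let Ψ : A' ⊗[A] R →ₐ[A'] E :=
    Algebra.TensorProduct.lift (Algebra.ofId A' E) ψ fun _ _ => mul_comm _ _
  have hΨ : ∀ (a : A') (r : R), Ψ (a ⊗ₜ r) = algebraMap A' E a * ψ r := fun a r =>
    Algebra.TensorProduct.lift_tmul _ _ _ _ _
  let φ' : B →ₗ[A'] E := φ.toLinearMap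
  let C := E ⧸ LinearMap.range φ'
  let fstM : M →ₗ[A] R := ((AlgHom.fst A R B).comp M.val).toLinearMap
  let τ : R →ₗ[A] C := ((LinearMap.range φ').mkQ.restrictScalars A) ∘ₗ ψ.toLinearMap
  have hker : LinearMap.range fstM = LinearMap.ker τ := by
    ext r
    constructor
    · rintro ⟨m, rfl⟩
      exact (Submodule.Quotient.mk_eq_zero _).mpr ⟨m.1.2, m.2.symm⟩
    · intro hr
      obtain ⟨b, hb⟩ := (Submodule.Quotient.mk_eq_zero _).mp hr
      exact ⟨⟨(r, b), hb.symm⟩, rfl⟩
  have hex := Module.Flat.lTensor_exact A' (LinearMap.exact_iff.mpr hker.symm)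
  -- torsion part of the target
  let mulC : A' ⊗[A] C →ₗ[A] C :=
    TensorProduct.lift (LinearMap.mk₂ A (fun (a : A') (x : C) => a • x) (fun _ _ _ => add_smul _ _ _)
      (fun _ _ _ => smul_assoc _ _ _) (fun _ _ _ => smul_add _ _ _) (fun c a x => smul_comm a c x))
  have hmulC : ∀ (a : A') (x : C), mulC (a ⊗ₜ x) = a • x := fun a x => rfl
  have hC' : Function.Injective mulC := by
    have hbij : Function.Bijective (TensorProduct.mk A A' C 1) := hC
    intro x y hxy
    obtain ⟨x, rfl⟩ := hbij.2 x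
    obtain ⟨y, rfl⟩ := hbij.2 y
    rw [TensorProduct.mk_apply, TensorProduct.mk_apply, hmulC, hmulC, one_smul, one_smul] at hxy
    rw [hxy]
  have hcompat : ∀ s : A' ⊗[A] M, φ (μ s) = Ψ (fstM.lTensor A' s) := fun s => by
    induction s using TensorProduct.induction_on with
    | zero => simp
    | add s t hs ht => rw [map_add, map_add, map_add, map_add, hs, ht]
    | tmul a m =>
      rw [hμ, LinearMap.lTensor_tmul, hΨ, map_mul, AlgHom.commutes]
      exact congrArg _ m.2.symm
  have hcompat' : ∀ t : A' ⊗[A] R, (LinearMap.range φ').mkQ (Ψ t) = mulC (τ.lTensor A' t) :=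
    fun t => by
    induction t using TensorProduct.induction_on with
    | zero => simp
    | add s t hs ht => rw [map_add, map_add, map_add, map_add, hs, ht]
    | tmul a r =>
      rw [hΨ, LinearMap.lTensor_tmul, hmulC, ← Algebra.smul_def, map_smul]
      rfl
  -- elements coming from the kernel
  have hkm : ∀ b : B, φ b = 0 → ∃ s : A' ⊗[A] M, μ s = b ∧ fstM.lTensor A' s = 0 := fun b hb => by
    refine ⟨1 ⊗ₜ ⟨(0, b), mem_glueAlg.mpr (by rw [map_zero, hb])⟩, ?_, ?_⟩
    · rw [hμ, map_one, one_mul]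
    · rw [LinearMap.lTensor_tmul]
      exact TensorProduct.tmul_zero _ _
  refine ⟨?_, fun b => ?_⟩
  · rw [injective_iff_map_eq_zero]
    intro s hs
    have h1 : fstM.lTensor A' s = 0 := by
      refine hψ.1 ?_
      change Ψ (fstM.lTensor A' s) = Ψ 0
      rw [← hcompat, map_zero, show μ s = 0 from hs, map_zero]
    -- the kernel of the projection
    let incl : LinearMap.ker (φ.restrictScalars A).toLinearMap →ₗ[A] M :=
      { toFun := fun k => ⟨(0, k.1), mem_glueAlg.mpr (by rw [map_zero]; exact k.2.symm)⟩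
        map_add' := fun k l => Subtype.ext (Prod.ext (add_zero 0).symm rfl)
        map_smul' := fun c k => Subtype.ext (Prod.ext (smul_zero c).symm rfl) }
    have hex₂ : Function.Exact incl fstM := fun m => by
      constructor
      · intro hm
        have hm' : m.1.1 = 0 := hm
        have := m.2
        rw [mem_glueAlg, hm', map_zero] at this
        exact ⟨⟨m.1.2, this.symm⟩, Subtype.ext (Prod.ext hm'.symm rfl)⟩
      · rintro ⟨k, rfl⟩
        rfl
    obtain ⟨u, rfl⟩ := (Module.Flat.lTensor_exact A' hex₂ s).mp h1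
    obtain ⟨k, rfl⟩ := hK.2 u
    rw [TensorProduct.mk_apply, LinearMap.lTensor_tmul] at hs ⊢
    rw [hμ, map_one, one_mul] at hs
    have : k.1 = 0 := hs
    rw [show k = 0 from Subtype.ext this, map_zero, TensorProduct.tmul_zero]
  · obtain ⟨t, ht⟩ := hψ.2 (φ b)
    have ht0 : τ.lTensor A' t = 0 := hC' (by
      rw [← hcompat', map_zero]
      exact (Submodule.Quotient.mk_eq_zero _).mpr ⟨b, ht.symm⟩)
    obtain ⟨s, rfl⟩ := (hex t).mp ht0
    obtain ⟨s', hs', -⟩ := hkm (b - μ s) (by rw [map_sub, hcompat, ← ht]; exact sub_self _)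
    exact ⟨s + s', by rw [map_add]; change μ s + μ s' = b; rw [hs']; abel⟩

end Groth.Agent.H80.Extend
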