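import Groth.Prelude.Def_FEt
import Groth.Agent.H80.Extend.FormalAlg
import Groth.Agent.Lib.ZeroCyc99.FlatLocalAffine
import Groth.Agent.Lib.DescAlg.Descends
import Mathlib.AlgebraicGeometry.Morphisms.FlatDescent

/-!
# Formal gluing of affine schemes over an open subscheme
-/

set_option autoImplicit false
set_option backward.isDefEq.respectTransparency false

universe u

open CategoryTheory CategoryTheory.Limits AlgebraicGeometry TensorProduct

namespace Groth.Agent.H80.Extend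

open Groth.Agent.Lib.ZeroCyc99

/-- Off a basic open of the image, an open immersion is an isomorphism on functions up to powers. -/
theorem torsion_of_basicOpen_le {P Z : Scheme.{u}} (c : P ⟶ Z) [IsOpenImmersion c] [IsAffine Z]
    (s : Γ(Z, ⊤)) (hs : Z.basicOpen s ≤ c.opensRange) :
    (∀ b : Γ(Z, ⊤), c.appTop b = 0 → ∃ n : ℕ, s ^ n * b = 0) ∧
    ∀ x : Γ(P, ⊤), CompactSpace P → ∃ (n : ℕ) (b : Γ(Z, ⊤)), c.appTop b = c.appTop s ^ n * x := by
  have hpre : c ⁻¹ᵁ Z.basicOpen s = P.basicOpen (c.appTop s) := Scheme.preimage_basicOpen_top _ _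
  have hiso : IsIso (c.app (Z.basicOpen s)) := c.isIso_app _ hs
  have hnat : ∀ y : Γ(Z, ⊤), c.app (Z.basicOpen s) (y |_ Z.basicOpen s) =
      (c.appTop y) |_ (c ⁻¹ᵁ Z.basicOpen s) := fun y =>
    (ConcreteCategory.congr_hom (c.naturality (homOfLE le_top).op) y)
  refine ⟨fun b hb => ?_, fun x _ => ?_⟩
  · refine exists_of_res_zero_of_qcqs_of_top ((ConcreteCategory.bijective_of_isIso
      (c.app (Z.basicOpen s))).1 ?_)
    rw [hnat, hb, map_zero]
    exact map_zero _
  · obtain ⟨x', hx'⟩ := (ConcreteCategory.bijective_of_isIso (c.app (Z.basicOpen s))).2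
      (x |_ (c ⁻¹ᵁ Z.basicOpen s))
    obtain ⟨n, y, hy⟩ := exists_eq_pow_mul_of_isCompact_of_isQuasiSeparated Z ⊤ isCompact_univ
      isQuasiSeparated_univ s x'
    have h1 : (c.appTop y) |_ (c ⁻¹ᵁ Z.basicOpen s) =
        (c.appTop s ^ n * x) |_ (c ⁻¹ᵁ Z.basicOpen s) := by
      rw [← hnat, hy, map_mul, map_pow, hnat, hx']
      simp only [TopCat.Presheaf.restrictOpenCommRingCat_apply, map_mul, map_pow]
    rw [← sub_eq_zero] at h1
    have h2 : (c.appTop y - c.appTop s ^ n * x) |_ (P.basicOpen (c.appTop s)) = 0 := by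
      rw [← hpre]
      simpa only [TopCat.Presheaf.restrictOpenCommRingCat_apply, map_sub] using h1
    obtain ⟨k, hk⟩ := exists_pow_mul_eq_zero_of_res_basicOpen_eq_zero_of_isCompact P isCompact_univ _ _ h2
    refine ⟨k + n, s ^ k * y, ?_⟩
    rw [mul_sub, sub_eq_zero] at hk
    rw [map_mul, map_pow, hk, pow_add, mul_assoc]

/-- Morphisms to affine schemes as spectra. -/
theorem toSpecΓ_map_appTop {V : Scheme.{u}} {A : CommRingCat.{u}} (w : V ⟶ Spec A) :
    V.toSpecΓ ≫ Spec.map ((Scheme.ΓSpecIso A).inv ≫ w.appTop) = w := by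
  rw [Spec.map_comp, ← Category.assoc, ← Scheme.toSpecΓ_naturality, Category.assoc,
    ← SpecMap_ΓSpecIso_hom, ← Spec.map_comp, Iso.inv_hom_id, Spec.map_id, Category.comp_id]

/-- **Formal gluing**: schemes over an open `U` and affine schemes over a flat neighbourhood of the
complement which agree on the overlap come from an affine scheme. -/
theorem exists_glue_formal {A A' : Type u} [CommRing A] [CommRing A'] [Algebra A A']
    [Module.Flat A A'] [Module.FaithfullyFlat A A'] {U V Z₂ P : Scheme.{u}}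
    (ι : U ⟶ Spec (CommRingCat.of A)) [IsOpenImmersion ι] [QuasiCompact ι]
    (hT : ∀ (N : Type u) [AddCommGroup N] [Module A N],
      (∀ (x : N) (r : A), (PrimeSpectrum.basicOpen r : Set (PrimeSpectrum A)) ⊆ Set.range ι →
        ∃ n : ℕ, r ^ n • x = 0) → Function.Bijective (TensorProduct.mk A A' N 1))
    (q : V ⟶ U) [QuasiCompact q] [QuasiSeparated q]
    [IsAffine Z₂] (z₂ : Z₂ ⟶ Spec (CommRingCat.of A')) (a : P ⟶ V) (b : P ⟶ Spec (CommRingCat.of A'))
    (c : P ⟶ Z₂) (h1 : IsPullback a b (q ≫ ι) (Spec.map (CommRingCat.ofHom (algebraMap A A'))))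
    (hcz : c ≫ z₂ = b)
    (h2 : IsPullback (a ≫ q) c ι (z₂ ≫ Spec.map (CommRingCat.ofHom (algebraMap A A')))) :
    ∃ (Z : Scheme.{u}) (z : Z ⟶ Spec (CommRingCat.of A)) (j : V ⟶ Z) (θ : Z₂ ⟶ Z),
      IsPullback θ z₂ z (Spec.map (CommRingCat.ofHom (algebraMap A A'))) ∧ IsPullback j q z ι := by
  let g := Spec.map (CommRingCat.ofHom (algebraMap A A'))
  have : Flat g := Flat.SpecMap_iff.mpr (RingHom.flat_algebraMap_iff.mpr inferInstance)
  have : Surjective g := ⟨PrimeSpectrum.comap_surjective_of_faithfullyFlat⟩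
  have hfs : (@Surjective ⊓ @Flat ⊓ @QuasiCompact : MorphismProperty Scheme.{u}) g :=
    ⟨⟨‹Surjective g›, ‹Flat g›⟩, inferInstance⟩
  have : CompactSpace U := QuasiCompact.compactSpace_of_compactSpace ι
  have : QuasiSeparatedSpace U := quasiSeparatedSpace_of_quasiSeparated ι
  have : CompactSpace V := QuasiCompact.compactSpace_of_compactSpace q
  have : QuasiSeparatedSpace V := quasiSeparatedSpace_of_quasiSeparated q
  have hc : IsOpenImmersion c := MorphismProperty.of_isPullback h2 inferInstance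
  have : QuasiCompact b := MorphismProperty.of_isPullback h1 inferInstance
  have : CompactSpace P := QuasiCompact.compactSpace_of_compactSpace b
  let w : V ⟶ Spec (CommRingCat.of A) := q ≫ ι
  let sA : CommRingCat.of A ⟶ Γ(V, ⊤) := (Scheme.ΓSpecIso (CommRingCat.of A)).inv ≫ w.appTop
  let sA' : CommRingCat.of A' ⟶ Γ(Z₂, ⊤) := (Scheme.ΓSpecIso (CommRingCat.of A')).inv ≫ z₂.appTop
  let sE : CommRingCat.of A' ⟶ Γ(P, ⊤) := (Scheme.ΓSpecIso (CommRingCat.of A')).inv ≫ b.appTop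
  let : Algebra A Γ(V, ⊤) := sA.hom.toAlgebra
  let : Algebra A' Γ(Z₂, ⊤) := sA'.hom.toAlgebra
  let : Algebra A Γ(Z₂, ⊤) := (sA'.hom.comp (algebraMap A A')).toAlgebra
  let : Algebra A' Γ(P, ⊤) := sE.hom.toAlgebra
  let : Algebra A Γ(P, ⊤) := (sE.hom.comp (algebraMap A A')).toAlgebra
  let : Algebra Γ(V, ⊤) Γ(P, ⊤) := a.appTop.hom.toAlgebra
  have : IsScalarTower A A' Γ(Z₂, ⊤) := .of_algebraMap_eq' rfl
  have : IsScalarTower A A' Γ(P, ⊤) := .of_algebraMap_eq' rfl
  have hsE : sA' ≫ c.appTop = sE := by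
    simp only [sA', sE, Category.assoc, ← Scheme.Hom.comp_appTop, hcz]
  have hg : (Scheme.ΓSpecIso (CommRingCat.of A)).inv ≫ g.appTop =
      CommRingCat.ofHom (algebraMap A A') ≫ (Scheme.ΓSpecIso (CommRingCat.of A')).inv := by
    rw [Scheme.ΓSpecIso_inv_naturality]
  have hsq : sA ≫ a.appTop = CommRingCat.ofHom (algebraMap A A') ≫ sE := by
    simp only [sA, sE]
    rw [← reassoc_of% hg, Category.assoc, ← Scheme.Hom.comp_appTop, ← Scheme.Hom.comp_appTop, h1.w]
  have hsq' : ∀ r : A, a.appTop (sA r) = sE (algebraMap A A' r) := fun r =>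
    ConcreteCategory.congr_hom hsq r
  have : IsScalarTower A Γ(V, ⊤) Γ(P, ⊤) := .of_algebraMap_eq fun r => (hsq' r).symm
  let ψ : Γ(V, ⊤) →ₐ[A] Γ(P, ⊤) := IsScalarTower.toAlgHom A Γ(V, ⊤) Γ(P, ⊤)
  let φ : Γ(Z₂, ⊤) →ₐ[A'] Γ(P, ⊤) :=
    { c.appTop.hom with commutes' := fun r => ConcreteCategory.congr_hom hsE r }
  -- the overlap
  have p1 := FlatLocalAffine.isPushout_appTop h1
  have p1' : IsPushout (CommRingCat.ofHom (algebraMap A Γ(V, ⊤)))
      (CommRingCat.ofHom (algebraMap A A')) (CommRingCat.ofHom (algebraMap Γ(V, ⊤) Γ(P, ⊤)))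
      (CommRingCat.ofHom (algebraMap A' Γ(P, ⊤))) := by
    refine p1.of_iso (Scheme.ΓSpecIso (CommRingCat.of A)) (Iso.refl _)
      (Scheme.ΓSpecIso (CommRingCat.of A')) (Iso.refl _) ?_ ?_ ?_ ?_
    · change w.appTop ≫ 𝟙 _ = _ ≫ sA
      simp [sA]
    · change g.appTop ≫ _ = _ ≫ CommRingCat.ofHom (algebraMap A A')
      rw [Scheme.ΓSpecIso_naturality]
    · exact (Category.comp_id _).trans (Category.id_comp _).symm
    · change b.appTop ≫ 𝟙 _ = _ ≫ sE
      simp [sE]
  have : Algebra.IsPushout A Γ(V, ⊤) A' Γ(P, ⊤) := CommRingCat.isPushout_iff_isPushout.mp p1'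
  have : Algebra.IsPushout A A' Γ(V, ⊤) Γ(P, ⊤) := Algebra.IsPushout.symm ‹_›
  have hψ : Function.Bijective (Algebra.TensorProduct.lift (Algebra.ofId A' Γ(P, ⊤)) ψ
      fun _ _ => mul_comm _ _ : A' ⊗[A] Γ(V, ⊤) →ₐ[A'] Γ(P, ⊤)) := by
    let e := Algebra.IsPushout.equiv A A' Γ(V, ⊤) Γ(P, ⊤)
    have he : ∀ x, (Algebra.TensorProduct.lift (Algebra.ofId A' Γ(P, ⊤)) ψ
        fun _ _ => mul_comm _ _ : A' ⊗[A] Γ(V, ⊤) →ₐ[A'] Γ(P, ⊤)) x = e x := fun x => by
      induction x using TensorProduct.induction_on with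
      | zero => simp
      | add x y hx hy => rw [map_add, map_add, hx, hy]
      | tmul r v => rw [Algebra.TensorProduct.lift_tmul, Algebra.IsPushout.equiv_tmul]; rfl
    rw [funext he]
    exact e.bijective
  -- torsion
  have hbasic : ∀ r : A, (PrimeSpectrum.basicOpen r : Set (PrimeSpectrum A)) ⊆ Set.range ι →
      Z₂.basicOpen (algebraMap A Γ(Z₂, ⊤) r) ≤ c.opensRange := by
    intro r hr y hy
    have e : (algebraMap A Γ(Z₂, ⊤) r) =
        (z₂ ≫ g).appTop ((Scheme.ΓSpecIso (CommRingCat.of A)).inv r) := by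
      rw [Scheme.Hom.comp_appTop]
      change sA' (algebraMap A A' r) = z₂.appTop (g.appTop ((Scheme.ΓSpecIso (CommRingCat.of A)).inv r))
      exact congrArg z₂.appTop (ConcreteCategory.congr_hom hg r).symm
    rw [e, ← Scheme.preimage_basicOpen_top, Scheme.Hom.mem_preimage, basicOpen_eq_of_affine] at hy
    obtain ⟨u, hu⟩ := hr hy
    obtain ⟨p, -, hp⟩ := Scheme.exists_preimage_of_isPullback h2 u y hu
    exact ⟨p, hp⟩
  have hC := hT (Γ(P, ⊤) ⧸ LinearMap.range (φ.restrictScalars A).toLinearMap) (fun x r hr => by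
    obtain ⟨x, rfl⟩ := Submodule.Quotient.mk_surjective _ x
    obtain ⟨n, y, hy⟩ := (torsion_of_basicOpen_le c _ (hbasic r hr)).2 x inferInstance
    refine ⟨n, (Submodule.Quotient.mk_eq_zero _).mpr ⟨y, ?_⟩⟩
    change _ = r ^ n • x
    rw [Algebra.smul_def]
    refine Eq.trans ?_ (congrArg (· * x) (map_pow _ r n).symm)
    exact hy.trans (congrArg (fun t => t ^ n * x) (ConcreteCategory.congr_hom hsE _)))
  have hK := hT (LinearMap.ker (φ.restrictScalars A).toLinearMap) (fun x r hr => by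
    obtain ⟨n, hn⟩ := (torsion_of_basicOpen_le c _ (hbasic r hr)).1 x.1 x.2
    refine ⟨n, Subtype.ext ?_⟩
    change r ^ n • x.1 = 0
    rw [Algebra.smul_def, map_pow]
    exact hn)
  have hμ := bijective_glueComp ψ φ hψ hC hK
  let M := glueAlg ψ φ
  let fstM : M →ₐ[A] Γ(V, ⊤) := (AlgHom.fst A Γ(V, ⊤) Γ(Z₂, ⊤)).comp M.val
  let sndM : M →ₐ[A] Γ(Z₂, ⊤) := (AlgHom.snd A Γ(V, ⊤) Γ(Z₂, ⊤)).comp M.val
  let : Algebra M Γ(Z₂, ⊤) := sndM.toRingHom.toAlgebra
  have : IsScalarTower A M Γ(Z₂, ⊤) := .of_algebraMap_eq fun r => (sndM.commutes r).symm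
  let Z := Spec (CommRingCat.of M)
  let z : Z ⟶ Spec (CommRingCat.of A) := Spec.map (CommRingCat.ofHom (algebraMap A M))
  let j : V ⟶ Z := V.toSpecΓ ≫ Spec.map (CommRingCat.ofHom fstM.toRingHom)
  let θ : Z₂ ⟶ Z := Z₂.toSpecΓ ≫ Spec.map (CommRingCat.ofHom sndM.toRingHom)
  have hjz : j ≫ z = w := by
    rw [Category.assoc, ← Spec.map_comp]
    refine Eq.trans ?_ (toSpecΓ_map_appTop w)
    refine congrArg (fun f => V.toSpecΓ ≫ Spec.map f) ?_
    ext r
    exact fstM.commutes r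
  have hθ : IsPullback θ z₂ z g := by
    let : Algebra M (A' ⊗[A] M) := Algebra.TensorProduct.rightAlgebra
    have hpo : Algebra.IsPushout A A' M Γ(Z₂, ⊤) :=
      Algebra.IsPushout.of_equiv (AlgEquiv.ofBijective (glueComp ψ φ) hμ) (by
        refine RingHom.ext fun m => ?_
        change glueComp ψ φ ((1 : A') ⊗ₜ[A] m) = m.1.2
        rw [glueComp, Algebra.TensorProduct.lift_tmul, map_one, one_mul]
        rfl)
    have p2 := CommRingCat.isPushout_iff_isPushout.mpr (Algebra.IsPushout.symm hpo)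
    refine (isPullback_SpecMap_of_isPushout _ _ _ _ p2).of_iso Z₂.isoSpec.symm (Iso.refl _)
      (Iso.refl _) (Iso.refl _) ?_ ?_ (by simp [z]) (by simp [g])
    · simp only [Iso.refl_hom, Category.comp_id, θ, Iso.symm_hom]
      exact (Iso.inv_hom_id_assoc _ _).symm
    · simp only [Iso.refl_hom, Category.comp_id, Iso.symm_hom]
      refine Eq.trans ?_ (congrArg (Z₂.isoSpec.inv ≫ ·) (toSpecΓ_map_appTop z₂))
      exact (Iso.inv_hom_id_assoc _ _).symm
  have hcθ : c ≫ θ = a ≫ j := by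
    simp only [θ, j]
    rw [Scheme.toSpecΓ_naturality_assoc, Scheme.toSpecΓ_naturality_assoc, ← Spec.map_comp,
      ← Spec.map_comp]
    congr 2
    ext m
    exact m.2.symm
  let d : V ⟶ pullback ι z := pullback.lift q j hjz.symm
  have hd1 : d ≫ pullback.fst ι z = q := pullback.lift_fst _ _ _
  have hd2 : d ≫ pullback.snd ι z = j := pullback.lift_snd _ _ _
  have hQ : IsPullback (a ≫ d) c (pullback.snd ι z) θ := by
    refine IsPullback.of_right ?_ ?_ (IsPullback.of_hasPullback ι z)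
    · rw [Category.assoc, hd1, hθ.w]
      exact h2
    · rw [Category.assoc, hd2, hcθ]
  have hV : IsPullback a c j θ := by
    refine IsPullback.of_bot ?_ hcθ.symm hθ
    rw [hcz, hjz]
    exact h1
  have hbase : IsPullback a (𝟙 P) d (a ≫ d) := by
    refine IsPullback.of_bot ?_ (Category.id_comp _).symm hQ
    rw [hd2, Category.id_comp]
    exact hV
  have hθs : (@Surjective ⊓ @Flat ⊓ @QuasiCompact : MorphismProperty Scheme.{u}) (a ≫ d) :=
    MorphismProperty.of_isPullback hQ.flip (MorphismProperty.of_isPullback hθ.flip hfs)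
  have : IsIso d := MorphismProperty.of_isPullback_of_descendsAlong
    (P := MorphismProperty.isomorphisms Scheme.{u}) hbase.flip hθs
    (inferInstanceAs (IsIso (𝟙 P)))
  exact ⟨Z, z, j, θ, hθ, (IsPullback.of_iso_pullback ⟨hjz.symm⟩ (asIso d) hd1 hd2).flip⟩

end Groth.Agent.H80.Extend
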