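import Groth.Prelude.Def_FEt
import Groth.Agent.S12073
import Groth.Agent.Lib.Lim.SmoothEtale
import Groth.Agent.Lib.Lim.LocalLimit
import Mathlib.AlgebraicGeometry.Noetherian

/-!
# Extending finite etale covers from an open subscheme to further opens
-/

set_option autoImplicit false
set_option backward.isDefEq.respectTransparency false

universe u

open CategoryTheory CategoryTheory.Limits AlgebraicGeometry

namespace Groth.Agent.H80.Extend

/-- The cover `q` of `U` has an extension to `o : O ⟶ X`, compatibly on `U ×_X O`. -/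
def Ext {U V X O : Scheme.{u}} (q : V ⟶ U) (ι : U ⟶ X) (o : O ⟶ X) : Prop :=
  ∃ (Z : Scheme.{u}) (z : Z ⟶ O) (P : Scheme.{u}) (a : P ⟶ V) (b : P ⟶ O) (c : P ⟶ Z),
    FEt.prop.{u} z ∧ IsPullback a b (q ≫ ι) o ∧ c ≫ z = b ∧ IsPullback (a ≫ q) c ι (z ≫ o)

theorem Ext.baseChange {U V X O T : Scheme.{u}} {q : V ⟶ U} {ι : U ⟶ X} {o : O ⟶ X}
    (h : Ext q ι o) (t : T ⟶ O) : Ext q ι (t ≫ o) := by
  obtain ⟨Z, z, P, a, b, c, hz, h1, hcz, h2⟩ := h
  have hc : (pullback.fst b t ≫ c) ≫ z = pullback.snd b t ≫ t := by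
    rw [Category.assoc, hcz, pullback.condition]
  refine ⟨pullback z t, pullback.snd z t, pullback b t, pullback.fst b t ≫ a, pullback.snd b t,
    pullback.lift (pullback.fst b t ≫ c) (pullback.snd b t) hc,
    MorphismProperty.pullback_snd _ _ hz, (IsPullback.of_hasPullback b t).paste_horiz h1,
    pullback.lift_snd _ _ _, ?_⟩
  have h3 : IsPullback (pullback.fst b t) (pullback.lift (pullback.fst b t ≫ c) (pullback.snd b t) hc)
      c (pullback.fst z t) := by
    refine IsPullback.of_bot ?_ (pullback.lift_fst _ _ _).symm (IsPullback.of_hasPullback z t)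
    rw [pullback.lift_snd, hcz]
    exact IsPullback.of_hasPullback b t
  have h4 := h3.paste_horiz h2
  rwa [← Category.assoc (pullback.fst b t), pullback.condition_assoc] at h4

/-- A cover over `o : O ⟶ X` isomorphic to the given one on `U ×_X O` gives an extension. -/
theorem Ext.of_iso {U X O : Scheme.{u}} (ι : U ⟶ X) (o : O ⟶ X) (Y : FEt.Cat U) (Z : FEt.Cat O)
    (e : (FEt.restrict (pullback.snd ι o)).obj Z ≅ (FEt.restrict (pullback.fst ι o)).obj Y) :
    Ext Y.hom ι o := by
  let R := pullback ι o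
  let el : pullback Z.hom (pullback.snd ι o) ≅ pullback Y.hom (pullback.fst ι o) :=
    (MorphismProperty.Over.forget FEt.prop.{u} ⊤ _ ⋙ Over.forget _).mapIso e
  have hel : el.hom ≫ pullback.snd Y.hom (pullback.fst ι o) = pullback.snd Z.hom (pullback.snd ι o) :=
    Over.w e.hom.hom
  have hel' : el.inv ≫ pullback.snd Z.hom (pullback.snd ι o) = pullback.snd Y.hom (pullback.fst ι o) :=
    Over.w e.inv.hom
  refine ⟨Z.left, Z.hom, pullback Y.hom (pullback.fst ι o), pullback.fst _ _,
    pullback.snd _ _ ≫ pullback.snd ι o, el.inv ≫ pullback.fst _ _, Z.prop,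
    (IsPullback.of_hasPullback Y.hom (pullback.fst ι o)).paste_vert (IsPullback.of_hasPullback ι o),
    ?_, ?_⟩
  · exact ((Category.assoc _ _ _).trans (congrArg (el.inv ≫ ·) pullback.condition)).trans
      ((Category.assoc _ _ _).symm.trans (congrArg (· ≫ pullback.snd ι o) hel'))
  · refine ((IsPullback.of_hasPullback Z.hom (pullback.snd ι o)).flip.paste_horiz
      (IsPullback.of_hasPullback ι o)).of_iso el (Iso.refl _) (Iso.refl _) (Iso.refl _) ?_ ?_
      (by simp) (by simp)
    · simp only [Iso.refl_hom, Category.comp_id]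
      exact ((congrArg (el.hom ≫ ·) pullback.condition).trans ((Category.assoc _ _ _).symm.trans
        (congrArg (· ≫ pullback.fst ι o) hel))).symm
    · simp only [Iso.refl_hom, Category.comp_id]
      exact (el.hom_inv_id_assoc _).symm

section Limit

open Groth.Agent.Lib.Lim

variable {I : Type u} [SmallCategory I] [IsCofiltered I] {D : I ⥤ Scheme.{u}} {c : Cone D}
  [∀ (i j : I) (f : i ⟶ j), IsAffineHom (D.map f)] [∀ i, CompactSpace (D.obj i)]
  [∀ i, QuasiSeparatedSpace (D.obj i)]

/-- An extension over the limit comes from an extension over a stage. -/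
theorem exists_ext_stage (hc : IsLimit c) {U V X : Scheme.{u}} (q : V ⟶ U) (hq : FEt.prop.{u} q)
    (ι : U ⟶ X) [IsOpenImmersion ι] [QuasiCompact ι] {i : I} (s : D.obj i ⟶ X)
    (h : Ext q ι (c.π.app i ≫ s)) : ∃ (k : I) (φ : k ⟶ i), Ext q ι (D.map φ ≫ s) := by
  obtain ⟨Zx, z, P, a, b, cc, hz, h1, hcz, h2⟩ := h
  have : IsFinite q := hq.1
  have : Etale q := hq.2
  obtain ⟨i', Zi, ⟨e⟩⟩ := (Groth.Agent.S12073.result D c hc).1 (MorphismProperty.Over.mk ⊤ z hz)
  obtain ⟨j, α, β, -⟩ := IsCofilteredOrEmpty.cone_objs i i'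
  let el : pullback Zi.hom (c.π.app i') ≅ Zx :=
    (MorphismProperty.Over.forget FEt.prop.{u} ⊤ _ ⋙ Over.forget _).mapIso e
  have hel : el.hom ≫ z = pullback.snd Zi.hom (c.π.app i') := Over.w e.hom.hom
  have hY0 : IsPullback (el.inv ≫ pullback.fst Zi.hom (c.π.app i')) z Zi.hom (c.π.app i') := by
    refine (IsPullback.of_hasPullback Zi.hom (c.π.app i')).of_iso el (Iso.refl _) (Iso.refl _)
      (Iso.refl _) ?_ ?_ (by simp) (by simp)
    · simp only [Iso.refl_hom, Category.comp_id]
      exact (el.hom_inv_id_assoc _).symm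
    · simp only [Iso.refl_hom, Category.comp_id]
      exact hel.symm
  let z' := pullback.snd Zi.hom (D.map β)
  have hz' : FEt.prop.{u} z' := MorphismProperty.pullback_snd _ _ Zi.prop
  have : IsFinite z' := hz'.1
  have : Etale z' := hz'.2
  have hgZ := FPDescend.move hY0 β
  set gZ := pullback.lift (f := Zi.hom) (g := D.map β) (el.inv ≫ pullback.fst Zi.hom (c.π.app i'))
    (z ≫ c.π.app j) (by rw [Category.assoc (f := z), c.w, hY0.w]) with hgZdef
  let s' : D.obj j ⟶ X := D.map α ≫ s
  have hs' : c.π.app j ≫ s' = c.π.app i ≫ s := by rw [← Category.assoc, c.w]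
  -- the two covers over the stage
  let aT := pullback.snd (q ≫ ι) s'
  let bY := pullback.snd ι (z' ≫ s') ≫ z'
  have hT : IsPullback (pullback.lift a (b ≫ c.π.app j) (by rw [Category.assoc, hs', h1.w])) b aT
      (c.π.app j) := by
    refine IsPullback.of_right ?_ (pullback.lift_snd _ _ _) (IsPullback.of_hasPullback (q ≫ ι) s')
    rw [pullback.lift_fst, hs']
    exact h1
  have hgz' : gZ ≫ z' = z ≫ c.π.app j := pullback.lift_snd _ _ _
  have hY1 : IsPullback (pullback.lift (a ≫ q) (cc ≫ gZ) (by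
      rw [h2.w, Category.assoc, reassoc_of% hgz', hs'])) cc (pullback.snd ι (z' ≫ s')) gZ := by
    refine IsPullback.of_right ?_ (pullback.lift_snd _ _ _) (IsPullback.of_hasPullback ι (z' ≫ s'))
    rw [pullback.lift_fst, reassoc_of% hgz', hs']
    exact h2
  have hY := hY1.paste_vert hgZ
  rw [hcz] at hY
  have : Etale (q ≫ ι) := inferInstance
  have : QuasiCompact (q ≫ ι) := inferInstance
  have : QuasiSeparated (q ≫ ι) := inferInstance
  have : CompactSpace (pullback (q ≫ ι) s' : Scheme.{u}) :=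
    QuasiCompact.compactSpace_of_compactSpace aT
  have : QuasiSeparatedSpace (pullback (q ≫ ι) s' : Scheme.{u}) :=
    quasiSeparatedSpace_of_quasiSeparated aT
  have : CompactSpace (pullback Zi.hom (D.map β) : Scheme.{u}) :=
    QuasiCompact.compactSpace_of_compactSpace z'
  have : CompactSpace (pullback ι (z' ≫ s') : Scheme.{u}) :=
    QuasiCompact.compactSpace_of_compactSpace (pullback.snd ι (z' ≫ s'))
  have : QuasiSeparatedSpace (pullback ι (z' ≫ s') : Scheme.{u}) :=
    quasiSeparatedSpace_of_quasiSeparated bY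
  obtain ⟨k, φ, e', he'⟩ := SmoothEtale.exists_iso hc j aT bY hT hY
  refine ⟨k, φ ≫ α, ?_⟩
  rw [D.map_comp, Category.assoc]
  let Z'' := pullback z' (D.map φ)
  let w : pullback bY (D.map φ) ⟶ Z'' :=
    pullback.lift (pullback.fst _ _ ≫ pullback.snd ι (z' ≫ s')) (pullback.snd _ _) (by
      rw [Category.assoc]; exact pullback.condition)
  have hw : IsPullback (pullback.fst bY (D.map φ)) w (pullback.snd ι (z' ≫ s'))
      (pullback.fst z' (D.map φ)) := by
    refine IsPullback.of_bot ?_ (pullback.lift_fst _ _ _).symm (IsPullback.of_hasPullback z' (D.map φ))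
    rw [pullback.lift_snd]
    exact IsPullback.of_hasPullback bY (D.map φ)
  have hws : (e'.hom ≫ w) ≫ pullback.snd z' (D.map φ) = pullback.snd aT (D.map φ) := by
    rw [Category.assoc, pullback.lift_snd, he']
  have h3 := hw.paste_horiz (IsPullback.of_hasPullback ι (z' ≫ s'))
  rw [pullback.condition_assoc] at h3
  have key : e'.hom ≫ pullback.fst bY (D.map φ) ≫ pullback.fst ι (z' ≫ s') =
      (pullback.fst aT (D.map φ) ≫ pullback.fst (q ≫ ι) s') ≫ q := by
    rw [← cancel_mono ι]
    simp only [Category.assoc]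
    rw [pullback.condition (f := q ≫ ι), pullback.condition (f := ι),
      pullback.condition_assoc, ← he', Category.assoc]
    congr 1
    simpa [bY] using (pullback.condition_assoc (f := bY) (g := D.map φ) s')
  refine ⟨Z'', pullback.snd z' (D.map φ), pullback aT (D.map φ),
    pullback.fst _ _ ≫ pullback.fst _ _, pullback.snd _ _, e'.hom ≫ w,
    MorphismProperty.pullback_snd _ _ hz',
    (IsPullback.of_hasPullback aT (D.map φ)).paste_horiz (IsPullback.of_hasPullback (q ≫ ι) s'),
    hws, ?_⟩
  refine h3.of_iso e'.symm (Iso.refl _) (Iso.refl _) (Iso.refl _) ?_ ?_ (by simp) (by simp [s'])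
  · simp only [Iso.refl_hom, Category.comp_id, Iso.symm_hom]
    rw [← key, Iso.inv_hom_id_assoc]
  · simp only [Iso.refl_hom, Category.comp_id, Iso.symm_hom, Iso.inv_hom_id_assoc]

end Limit

end Groth.Agent.H80.Extend
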