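import Groth.Agent.H80.Extend.Stage
import Groth.Agent.H80.UnivHomeo.Steps
import Groth.Agent.Lib.Lim.LocalLimit

/-!
# Extending finite etale covers across a point
-/

set_option autoImplicit false
set_option backward.isDefEq.respectTransparency false

universe u

open CategoryTheory CategoryTheory.Limits AlgebraicGeometry

namespace Groth.Agent.H80.Extend

/-- Gluing along two opens. -/
theorem exists_glue {X V : Scheme.{u}} {U O : X.Opens} (q : V ⟶ (U : Scheme.{u}))
    (hq : FEt.prop.{u} q) (h : Ext q U.ι O.ι) :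
    ∃ (Z : Scheme.{u}) (z : Z ⟶ ((U ⊔ O : X.Opens) : Scheme.{u})) (j : V ⟶ Z),
      FEt.prop.{u} z ∧ IsPullback j q z (X.homOfLE le_sup_left) := by
  obtain ⟨Zo, zo, P, a, b, c, hzo, h1, hcz, h2⟩ := h
  have : IsZariskiLocalAtTarget (@Etale : MorphismProperty Scheme.{u}) :=
    HasRingHomProperty.instIsZariskiLocalAtTarget @Etale
  have hc : IsOpenImmersion c := MorphismProperty.of_isPullback h2 inferInstance
  have ha : IsOpenImmersion a := MorphismProperty.of_isPullback h1.flip inferInstance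
  let F := span a c
  have : ∀ {p p' : WalkingSpan} (m : p ⟶ p'), IsOpenImmersion (F.map m) := by
    intro p p' m
    cases m with
    | id => simpa using inferInstanceAs (IsOpenImmersion (𝟙 (F.obj p)))
    | init t =>
      cases t
      · exact ha
      · exact hc
  let Z := colimit F
  let jV : V ⟶ Z := colimit.ι F WalkingSpan.left
  let jO : Zo ⟶ Z := colimit.ι F WalkingSpan.right
  have hjV : IsOpenImmersion jV := inferInstance
  have hjO : IsOpenImmersion jO := inferInstance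
  have hglue : a ≫ jV = c ≫ jO :=
    (colimit.w F WalkingSpan.Hom.fst).trans (colimit.w F WalkingSpan.Hom.snd).symm
  let toT : Z ⟶ ((U ⊔ O : X.Opens) : Scheme.{u}) :=
    pushout.desc (q ≫ X.homOfLE le_sup_left) (zo ≫ X.homOfLE le_sup_right) (by
      rw [← cancel_mono (U ⊔ O).ι]
      simp only [Category.assoc, Scheme.homOfLE_ι]
      rw [h1.w, ← reassoc_of% hcz])
  have hV : jV ≫ toT = q ≫ X.homOfLE le_sup_left := pushout.inl_desc _ _ _
  have hO : jO ≫ toT = zo ≫ X.homOfLE le_sup_right := pushout.inr_desc _ _ _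
  have hTι : ∀ (v : Z), (U ⊔ O).ι (toT v) = (toT ≫ (U ⊔ O).ι) v := fun v =>
    (Scheme.Hom.comp_apply _ _ _).symm
  have hVι : jV ≫ toT ≫ (U ⊔ O).ι = q ≫ U.ι := by
    rw [reassoc_of% hV, Scheme.homOfLE_ι]
  have hOι : jO ≫ toT ≫ (U ⊔ O).ι = zo ≫ O.ι := by
    rw [reassoc_of% hO, Scheme.homOfLE_ι]
  have hcov : ∀ z : Z, (∃ x, jV x = z) ∨ ∃ y, jO y = z := by
    intro z
    obtain ⟨p, x, hx⟩ := Scheme.IsLocallyDirected.ι_jointly_surjective F z
    match p with
    | some WalkingPair.left => exact Or.inl ⟨x, hx⟩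
    | some WalkingPair.right => exact Or.inr ⟨x, hx⟩
    | none =>
      refine Or.inl ⟨F.map WalkingSpan.Hom.fst x, ?_⟩
      rw [← hx]
      refine (Scheme.Hom.comp_apply _ _ _).symm.trans ?_
      exact congrArg (fun m : F.obj none ⟶ Z => m x) (colimit.w F WalkingSpan.Hom.fst)
  have hT : ∀ (v : Z) (W : X.Opens) (hW : W ≤ U ⊔ O),
      toT v ∈ (X.homOfLE hW).opensRange ↔ (toT ≫ (U ⊔ O).ι) v ∈ W := by
    intro v W hW
    rw [Scheme.Hom.comp_apply]
    constructor
    · rintro ⟨x, hx⟩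
      rw [← hx, ← Scheme.Hom.comp_apply, Scheme.homOfLE_ι]
      exact x.2
    · intro hv
      refine ⟨⟨_, hv⟩, (U ⊔ O).ι.isOpenEmbedding.injective ?_⟩
      rw [← Scheme.Hom.comp_apply, Scheme.homOfLE_ι]
      rfl
  have hpV : IsPullback q jV (X.homOfLE le_sup_left) toT := by
    refine IsOpenImmersion.isPullback _ _ _ _ hV (SetLike.ext fun v => ?_)
    rw [Scheme.Hom.mem_preimage, hT]
    constructor
    · intro hv
      rcases hcov v with ⟨x, rfl⟩ | ⟨y, rfl⟩
      · exact ⟨x, rfl⟩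
      · rw [← Scheme.Hom.comp_apply, hOι] at hv
        obtain ⟨p, -, hp⟩ := Scheme.exists_preimage_of_isPullback h2 ⟨_, hv⟩ y rfl
        refine ⟨a p, ?_⟩
        rw [← hp, ← Scheme.Hom.comp_apply, ← Scheme.Hom.comp_apply, hglue]
    · rintro ⟨x, rfl⟩
      rw [← Scheme.Hom.comp_apply, hVι, Scheme.Hom.comp_apply]
      exact (q x).2
  have hpO : IsPullback zo jO (X.homOfLE le_sup_right) toT := by
    refine IsOpenImmersion.isPullback _ _ _ _ hO (SetLike.ext fun v => ?_)
    rw [Scheme.Hom.mem_preimage, hT]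
    constructor
    · intro hv
      rcases hcov v with ⟨x, rfl⟩ | ⟨y, rfl⟩
      · rw [← Scheme.Hom.comp_apply, hVι] at hv
        obtain ⟨p, hp, -⟩ := Scheme.exists_preimage_of_isPullback h1 x ⟨_, hv⟩ rfl
        refine ⟨c p, ?_⟩
        rw [← hp, ← Scheme.Hom.comp_apply, ← Scheme.Hom.comp_apply, hglue]
      · exact ⟨y, rfl⟩
    · rintro ⟨y, rfl⟩
      rw [← Scheme.Hom.comp_apply, hOι, Scheme.Hom.comp_apply]
      exact (zo y).2
  refine ⟨Z, toT, jV, ?_, hpV.flip⟩
  have key : ∀ (R : MorphismProperty Scheme.{u}) [IsZariskiLocalAtTarget R],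
      R q → R zo → R toT := by
    intro R _ hRq hRz
    refine IsZariskiLocalAtTarget.of_iSup_eq_top (fun t : Bool => if t
      then (X.homOfLE (le_sup_left : U ≤ U ⊔ O)).opensRange
      else (X.homOfLE (le_sup_right : O ≤ U ⊔ O)).opensRange) ?_ fun t => ?_
    · refine top_le_iff.mp fun v _ => ?_
      rcases (v.2 : v.1 ∈ U ∨ v.1 ∈ O) with hv | hv
      · exact TopologicalSpace.Opens.mem_iSup.mpr ⟨true, ⟨⟨_, hv⟩, Subtype.ext (congrArg
          (fun m : (U : Scheme.{u}) ⟶ X => m ⟨_, hv⟩) (Scheme.homOfLE_ι X le_sup_left) :)⟩⟩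
      · exact TopologicalSpace.Opens.mem_iSup.mpr ⟨false, ⟨⟨_, hv⟩, Subtype.ext (congrArg
          (fun m : (O : Scheme.{u}) ⟶ X => m ⟨_, hv⟩) (Scheme.homOfLE_ι X le_sup_right) :)⟩⟩
    · cases t
      · refine (R.arrow_mk_iso_iff (morphismRestrictOpensRange _ _)).mpr ?_
        rw [← hpO.flip.isoPullback_inv_snd, R.cancel_left_of_respectsIso]
        exact hRz
      · refine (R.arrow_mk_iso_iff (morphismRestrictOpensRange _ _)).mpr ?_
        rw [← hpV.flip.isoPullback_inv_snd, R.cancel_left_of_respectsIso]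
        exact hRq
  exact ⟨key @IsFinite hq.1 hzo.1, key @Etale hq.2 hzo.2⟩

open Groth.Agent.Lib.Lim in
/-- An extension over the local scheme at a point spreads out to a neighbourhood. -/
theorem exists_nhd {X V : Scheme.{u}} [IsLocallyNoetherian X] (U : X.Opens)
    (q : V ⟶ (U : Scheme.{u})) (hq : FEt.prop.{u} q) (x : X)
    (h : Ext q U.ι (X.fromSpecStalk x)) : ∃ O : X.Opens, x ∈ O ∧ Ext q U.ι O.ι := by
  obtain ⟨_, ⟨W, hW, rfl⟩, hxW, -⟩ :=
    X.isBasis_affineOpens.exists_subset_of_mem_open (Set.mem_univ x) isOpen_univ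
  let p := hW.primeIdealOf ⟨x, hxW⟩
  let := X.presheaf.algebra_section_stalk (⟨x, hxW⟩ : W)
  have := hW.isLocalization_stalk ⟨x, hxW⟩
  let A := Γ(X, W)
  let ψ : X.presheaf.stalk x ≅ LocalLimit.loc (A := A) p :=
    (IsLocalization.algEquiv p.asIdeal.primeCompl (X.presheaf.stalk x)
      (Localization.AtPrime p.asIdeal)).toRingEquiv.toCommRingCatIso
  have hψ : X.presheaf.germ W x hxW ≫ ψ.hom =
      CommRingCat.ofHom (algebraMap A (Localization.AtPrime p.asIdeal)) := by
    ext a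
    exact (IsLocalization.algEquiv p.asIdeal.primeCompl (X.presheaf.stalk x)
      (Localization.AtPrime p.asIdeal)).commutes a
  have ht : Spec.map ψ.hom ≫ X.fromSpecStalk x = LocalLimit.toSpec (A := A) p ≫ hW.fromSpec := by
    rw [← hW.fromSpecStalk_eq_fromSpecStalk hxW, IsAffineOpen.fromSpecStalk, ← Spec.map_comp_assoc,
      hψ]
  obtain ⟨r₀⟩ := (inferInstance : Nonempty (LocalLimit.Nhd (A := A) p))
  let s : (LocalLimit.diag (A := A) p).obj r₀ ⟶ X := (LocalLimit.op' (A := A) p r₀).ι ≫ hW.fromSpec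
  have hs : (LocalLimit.cone (A := A) p).π.app r₀ ≫ s = Spec.map ψ.hom ≫ X.fromSpecStalk x := by
    rw [ht]
    exact (Category.assoc _ _ _).symm.trans (congrArg (· ≫ _) (LocalLimit.cone_π_ι (A := A) p r₀))
  have : ∀ (r r' : LocalLimit.Nhd (A := A) p) (f : r ⟶ r'),
      IsAffineHom ((LocalLimit.diag (A := A) p).map f) := fun r r' f => inferInstance
  obtain ⟨k, φ, hk⟩ := exists_ext_stage (LocalLimit.isLimit (A := A) p) q hq U.ι (i := r₀) s
    (hs ▸ h.baseChange (Spec.map ψ.hom))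
  let o : (LocalLimit.diag (A := A) p).obj k ⟶ X := (LocalLimit.op' (A := A) p k).ι ≫ hW.fromSpec
  have ho : (LocalLimit.diag (A := A) p).map φ ≫ s = o :=
    (Category.assoc _ _ _).symm.trans (congrArg (· ≫ _) (Scheme.homOfLE_ι _ (leOfHom φ)))
  rw [ho] at hk
  have : IsOpenImmersion o :=
    inferInstanceAs (IsOpenImmersion ((LocalLimit.op' (A := A) p k).ι ≫ hW.fromSpec))
  refine ⟨o.opensRange, ?_, ?_⟩
  · refine ⟨(LocalLimit.cone (A := A) p).π.app k
      ((Spec.map ψ.inv) (IsLocalRing.closedPoint (X.presheaf.stalk x))), ?_⟩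
    have hko : (LocalLimit.cone (A := A) p).π.app k ≫ o = Spec.map ψ.hom ≫ X.fromSpecStalk x := by
      rw [ht]
      exact (Category.assoc _ _ _).symm.trans (congrArg (· ≫ _) (LocalLimit.cone_π_ι (A := A) p k))
    have hid : Spec.map ψ.inv ≫ Spec.map ψ.hom ≫ X.fromSpecStalk x = X.fromSpecStalk x := by
      rw [← Spec.map_comp_assoc, ψ.hom_inv_id, Spec.map_id, Category.id_comp]
    refine ((Scheme.Hom.comp_apply _ _ _).symm.trans
      (congrArg (fun m => (Spec.map ψ.inv ≫ m) (IsLocalRing.closedPoint (X.presheaf.stalk x))) hko)).trans ?_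
    rw [hid, Scheme.fromSpecStalk_closedPoint]
  · rw [← o.isoOpensRange_inv_comp]
    exact hk.baseChange _

end Groth.Agent.H80.Extend
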